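import Cfsg.Agent.WeakJ1.Conn

/-!
The weak closure characterisation of the smallest Janko group.
-/

set_option autoImplicit false
set_option linter.style.haveILetI false

namespace Cfsg.Agent.WeakJ1

open Cfsg.Agent.J1Order38.Model Subgroup
open scoped commutatorElement

universe u

set_option synthInstance.maxSize 4000

set_option maxRecDepth 100000 in
theorem span_check : ∀ v : Fin 8, v ≠ 0 → v ≠ 1 → ∀ u : Fin 8, u = 0 ∨ u = 1 ∨ u = v ∨ u = beta v ∨
    u = beta (beta v) ∨ u = vadd 1 v ∨ u = vadd 1 (beta v) ∨ u = vadd 1 (beta (beta v)) := by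
  decide +kernel

set_option maxRecDepth 100000 in
theorem orbit_all : ∀ O : Finset (Fin 8), 1 ∈ O → 0 ∉ O → (∀ v ∈ O, beta v ∈ O) → O.card % 2 = 1 →
    (∃ v ∈ O, v ≠ 1) → ∀ v, v ≠ 0 → v ∈ O := by decide +kernel

theorem beta_two : beta 2 = 4 ∧ beta (beta 2) = vadd 2 4 := by decide +kernel

theorem fin_cases_span : ∀ v : Fin 8, v = vadd (vadd (if v.val % 2 = 1 then 1 else 0)
    (if v.val / 2 % 2 = 1 then 2 else 0)) (if v.val / 4 = 1 then 4 else 0) := by decide +kernel

theorem frame_of_le {G : Type*} [Group G] (ι : HM →* G) (hι : Function.Injective ι) (E : Subgroup G)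
    (hE : E ≤ ι.range) (hc : Nat.card E = 8) :
    ∃ ε : HM →* G, Function.Injective ε ∧ ε.range = ι.range ∧ ε (g0 3) = ι (g0 3) ∧
      E = eModel.map ε := by
  have hmap : (E.comap ι).map ι = E := by rw [map_comap_eq, inf_eq_right]; exact hE
  have hF : Nat.card (E.comap ι) = 8 := by rw [← hc]; conv_rhs => rw [← hmap, card_map_of_injective hι]
  obtain ⟨w, hw⟩ := conj_eModel _ hF
  refine ⟨ι.comp (MulAut.conj w⁻¹).toMonoidHom, hι.comp (MulAut.conj w⁻¹).injective, ?_, ?_, ?_⟩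
  · rw [MonoidHom.range_comp, MonoidHom.range_eq_top.2 (MulAut.conj w⁻¹).surjective,
      MonoidHom.range_eq_map]
  · show ι (w⁻¹ * g0 3 * w⁻¹⁻¹) = _
    rw [central_t w⁻¹, mul_inv_cancel_right]
  · rw [← map_map, ← hw, map_map (g := (MulAut.conj w⁻¹).toMonoidHom)]
    conv_lhs => rw [← hmap]
    congr 1
    ext z
    simp [Subgroup.mem_map, mul_assoc]

/-- The configuration from the weak closure of a central involution of a Sylow 2-subgroup. -/
theorem exists_hyp {G : Type u} [Group G] [Finite G] (t : G) (ht : orderOf t = 2) (S : Sylow 2 G)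
    (hS : ∀ s ∈ (S : Subgroup G), s * t = t * s)
    (hW : Nonempty (↥(Subgroup.closure {x : G | ∃ g : G, x = g * t * g⁻¹ ∧ x * t = t * x}) ≃* HM)) :
    ∃ D : Hyp G, D.t = t := by
  classical
  haveI : Fact (Nat.Prime 2) := ⟨Nat.prime_two⟩
  obtain ⟨e⟩ := hW
  set W := closure {x : G | ∃ g : G, x = g * t * g⁻¹ ∧ x * t = t * x} with hWdef
  have ht1 : t ≠ 1 := fun h => by rw [h, orderOf_one] at ht; omega
  have htW : t ∈ W := subset_closure ⟨1, by simp, rfl⟩
  have hclosed : ∀ x, IsConj t x → Commute x t → x ∈ W := fun x hx hc => by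
    obtain ⟨g, hg⟩ := isConj_iff.1 hx
    exact subset_closure ⟨g, hg.symm, hc⟩
  have hWt : ∀ x ∈ W, Commute x t := by
    intro x hx
    have hle : W ≤ centralizer ({t} : Set G) := (closure_le _).2 fun y ⟨g, _, hy⟩ => mem_cent_singleton.2 hy
    exact mem_cent_singleton.1 (hle hx)
  -- weak closures at conjugates
  let Wf : G → Subgroup G := fun u => closure {x | IsConj t x ∧ Commute x u}
  have hWf : ∀ u g x, x ∈ Wf u → g * x * g⁻¹ ∈ Wf (g * u * g⁻¹) := by
    intro u g x hx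
    have hle : Wf u ≤ (Wf (g * u * g⁻¹)).comap (MulAut.conj g).toMonoidHom := (closure_le _).2
      fun y hy => subset_closure ⟨hy.1.trans (isConj_iff.2 ⟨g, rfl⟩), hy.2.map (MulAut.conj g).toMonoidHom⟩
    exact hle hx
  have hWfW : Wf t = W := by
    refine le_antisymm ((closure_le _).2 fun x hx => hclosed x hx.1 hx.2) ((closure_le _).2 ?_)
    rintro x ⟨g, rfl, hc⟩
    exact subset_closure ⟨isConj_iff.2 ⟨g, rfl⟩, hc⟩
  set ι : HM →* G := W.subtype.comp e.symm.toMonoidHom with hι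
  have hιi : Function.Injective ι := (Subgroup.subtype_injective _).comp e.symm.injective
  have hιr : ι.range = W := by
    ext x
    refine ⟨?_, fun hx => ⟨e ⟨x, hx⟩, ?_⟩⟩
    · rintro ⟨z, rfl⟩; exact (e.symm z).2
    · show ((e.symm (e ⟨x, hx⟩) : W) : G) = x
      rw [MulEquiv.symm_apply_apply]
  have het : e ⟨t, htW⟩ = g0 3 := by
    have hc : ∀ w, e ⟨t, htW⟩ * w = w * e ⟨t, htW⟩ := fun w => by
      have h : (⟨t, htW⟩ : W) * e.symm w = e.symm w * ⟨t, htW⟩ :=
        Subtype.ext (hWt _ (e.symm w).2).eq.symm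
      simpa using congrArg e h
    rcases center_model _ (hc _) (hc _) (hc _) with h | h
    · exact absurd (congrArg Subtype.val ((MulEquiv.map_eq_one_iff e).1 h)) ht1
    · exact h
  have hιt : ι (g0 3) = t := by
    show ((e.symm (g0 3) : W) : G) = t
    rw [← het, MulEquiv.symm_apply_apply]
  -- the elementary subgroup in the Sylow subgroup
  set C := centralizer ({t} : Set G) with hC
  have hWC : W ≤ C := fun x hx => mem_cent_singleton.2 (hWt x hx)
  have hSC : (S : Subgroup G) ≤ C := fun x hx => mem_cent_singleton.2 (hS x hx)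
  have hWnorm : ∀ c ∈ C, ∀ x ∈ W, c * x * c⁻¹ ∈ W := by
    intro c hc x hx
    rw [← hWfW] at hx ⊢
    have := hWf t c x hx
    rwa [show c * t * c⁻¹ = t by rw [(mem_cent_singleton.1 hc).eq, mul_inv_cancel_right]] at this
  set E := (S : Subgroup G) ⊓ W with hEdef
  have hE8 : Nat.card E = 8 := by
    have hdvd : Nat.card E ∣ 120 := by
      rw [← card_HM, ← Nat.card_congr e.toEquiv]
      exact card_dvd_of_le inf_le_right
    obtain ⟨T0, hT0⟩ := (((IsPGroup.of_card (p := 2) (n := 3) card_eModel).map ι).comap_subtype (K := C)).exists_le_sylow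
    obtain ⟨c, hc⟩ := MulAction.exists_smul_eq C T0 (S.subtype hSC)
    have hle : (eModel.map ι).map (MulAut.conj (c : G)).toMonoidHom ≤ E := by
      rintro _ ⟨x, hx, rfl⟩
      have hxW : x ∈ W := by obtain ⟨z, -, rfl⟩ := hx; rw [← hιr]; exact ⟨z, rfl⟩
      refine ⟨?_, hWnorm _ c.2 x hxW⟩
      have hm : c * (⟨x, hWC hxW⟩ : C) * c⁻¹ ∈ ((S.subtype hSC : Sylow 2 C) : Subgroup C) := by
        rw [← hc]; exact ⟨_, hT0 hx, rfl⟩
      exact hm
    have h8 := card_dvd_of_le hle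
    rw [card_map_of_injective (MulAut.conj (c : G)).injective, card_map_of_injective hιi, card_eModel] at h8
    obtain ⟨n, hn⟩ := IsPGroup.iff_card.1 (S.isPGroup'.to_le (inf_le_left : E ≤ (S : Subgroup G)))
    rw [hn] at hdvd h8 ⊢
    have h3 : 3 ≤ n := (Nat.pow_dvd_pow_iff_le_right (x := 2) (by norm_num)).1 (by norm_num; exact h8)
    by_contra hne
    have hn4 : 4 ≤ n := by
      rcases Nat.lt_or_ge n 4 with h | h
      · interval_cases n; simp at hne
      · exact h
    have := (Nat.pow_dvd_pow 2 hn4).trans hdvd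
    norm_num at this
  obtain ⟨ε, hεi, hεr, hεt, hεE⟩ := frame_of_le ι hιi E (hιr ▸ inf_le_right) hE8
  rw [hιr] at hεr
  rw [hιt] at hεt
  have hεW : ∀ z, ε z ∈ W := fun z => hεr ▸ ⟨z, rfl⟩
  have hsvE : ∀ v, ε (sv v) ∈ E := fun v => by rw [hεE]; exact ⟨sv v, ⟨v, rfl⟩, rfl⟩
  have hEsv : ∀ x ∈ E, ∃ v, ε (sv v) = x := fun x hx => by
    rw [hεE] at hx; obtain ⟨_, ⟨v, rfl⟩, rfl⟩ := hx; exact ⟨v, rfl⟩
  set h := ε (g0 1) with hh
  have hbeta : ∀ v, h * ε (sv v) * h⁻¹ = ε (sv (beta v)) := fun v => by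
    rw [← beta_ok, map_mul, map_mul, map_inv]
  have hone : ∀ v, v ≠ 0 → ε (sv v) ≠ 1 := fun v hv h1 => hv (sv_inj _ _ (hεi (by rw [h1, sv_zero, map_one])))
  -- the conjugates in the elementary subgroup
  set O := (Finset.univ : Finset (Fin 8)).filter fun v => IsConj t (ε (sv v)) with hO
  have hmemO : ∀ v, v ∈ O ↔ IsConj t (ε (sv v)) := fun v => by simp [hO]
  have hO1 : (1 : Fin 8) ∈ O := by rw [hmemO, sv_one, hεt]
  have hO0 : (0 : Fin 8) ∉ O := by
    rw [hmemO, sv_zero, map_one]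
    intro hc
    obtain ⟨g, hg⟩ := isConj_iff.1 hc
    rw [conj_eq_one_iff] at hg
    exact ht1 hg
  have hOb : ∀ v ∈ O, beta v ∈ O := fun v hv => by
    rw [hmemO] at hv ⊢
    exact hv.trans (isConj_iff.2 ⟨h, hbeta v⟩)
  have hOne : ∃ v ∈ O, v ≠ 1 := by
    by_contra hno
    push Not at hno
    have hall : W ≤ zpowers t := (closure_le _).2 fun x hx => by
      obtain ⟨g, rfl, hc⟩ := hx
      have hxW : g * t * g⁻¹ ∈ W := hclosed _ (isConj_iff.2 ⟨g, rfl⟩) hc
      rw [← hεr] at hxW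
      obtain ⟨z, hz⟩ := hxW
      have hzz : z * z = 1 := hεi (by
        rw [map_mul, hz, map_one]
        calc g * t * g⁻¹ * (g * t * g⁻¹) = g * (t * t) * g⁻¹ := by group
          _ = 1 := by rw [← pow_two, ← ht, pow_orderOf_eq_one]; group)
      obtain ⟨w, v, hwv⟩ := invol_conj_sv z hzz
      have hv : v = 1 := hno v ((hmemO v).2 ((isConj_iff.2 ⟨g, rfl⟩ : IsConj t (g * t * g⁻¹)).trans
        (isConj_iff.2 ⟨ε w, by rw [← hz, ← hwv, map_mul, map_mul, map_inv]⟩)))
      have : z = g0 3 := by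
        rw [hv, sv_one] at hwv
        rw [show z = w⁻¹ * (w * z * w⁻¹) * w by group, hwv, central_t w⁻¹, mul_assoc, inv_mul_cancel, mul_one]
      show g * t * g⁻¹ ∈ zpowers t
      rw [← hz, this, hεt]
      exact mem_zpowers t
    have h1 := card_dvd_of_le hall
    rw [Nat.card_zpowers, ht, Nat.card_congr e.toEquiv, card_HM] at h1
    norm_num at h1
  have hgen : ∀ u : G, (∀ v ∈ O, Commute (ε (sv v)) u) → ∀ y ∈ E, y ∈ Wf u := by
    intro u hu y hy
    obtain ⟨u', rfl⟩ := hEsv y hy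
    have hin : ∀ v ∈ O, ε (sv v) ∈ Wf u := fun v hv => subset_closure ⟨(hmemO v).1 hv, hu v hv⟩
    obtain ⟨v, hv, hv1⟩ := hOne
    have hv0 : v ≠ 0 := fun e0 => hO0 (e0 ▸ hv)
    have hb := hOb v hv
    have hbb := hOb _ hb
    have hprod : ∀ p q, ε (sv p) ∈ Wf u → ε (sv q) ∈ Wf u → ε (sv (vadd p q)) ∈ Wf u := fun p q hp hq => by
      rw [sv_add, map_mul]; exact mul_mem hp hq
    rcases span_check v hv0 hv1 u' with rfl | rfl | rfl | rfl | rfl | rfl | rfl | rfl
    · rw [sv_zero, map_one]; exact one_mem _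
    · exact hin 1 hO1
    · exact hin _ hv
    · exact hin _ hb
    · exact hin _ hbb
    · exact hprod _ _ (hin 1 hO1) (hin _ hv)
    · exact hprod _ _ (hin 1 hO1) (hin _ hb)
    · exact hprod _ _ (hin 1 hO1) (hin _ hbb)
  have hcommE : ∀ x ∈ E, ∀ y ∈ E, Commute x y := fun x hx y hy => by
    obtain ⟨v, rfl⟩ := hEsv x hx
    obtain ⟨w, rfl⟩ := hEsv y hy
    exact (show Commute (sv v) (sv w) from sv_comm v w).map ε
  have hfr : ∀ u ∈ E, IsConj t u → ∃ g : G, g * t * g⁻¹ = u ∧ ∃ η : HM →* G, Function.Injective η ∧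
      η.range = Wf u ∧ η (g0 3) = u ∧ E = eModel.map η := by
    intro u hu hcu
    obtain ⟨g, rfl⟩ := isConj_iff.1 hcu
    refine ⟨g, rfl, ?_⟩
    have hr : ((MulAut.conj g).toMonoidHom.comp ι).range = Wf (g * t * g⁻¹) := by
      rw [MonoidHom.range_comp, hιr, ← hWfW]
      refine le_antisymm ?_ ?_
      · rintro _ ⟨x, hx, rfl⟩; exact hWf t g x hx
      · intro x hx
        refine ⟨g⁻¹ * x * g, ?_, by show g * (g⁻¹ * x * g) * g⁻¹ = x; group⟩
        have := hWf _ g⁻¹ x hx
        rwa [inv_inv, show g⁻¹ * (g * t * g⁻¹) * g = t by group] at this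
    have hle : E ≤ ((MulAut.conj g).toMonoidHom.comp ι).range := by
      rw [hr]
      exact fun y hy => hgen _ (fun v _ => hcommE _ (hsvE v) _ hu) y hy
    obtain ⟨η, h1, h2, h3, h4⟩ := frame_of_le _ ((MulAut.conj g).injective.comp hιi) E hle hE8
    refine ⟨η, h1, h2.trans hr, ?_, h4⟩
    rw [h3]
    show g * ι (g0 3) * g⁻¹ = _
    rw [hιt]
  have hS' : t ∈ (S : Subgroup G) := by
    have h2 : IsPGroup 2 ((S : Subgroup G) ⊔ zpowers t : Subgroup G) := by
      refine S.isPGroup'.to_sup_of_normal_right' (IsPGroup.of_card (n := 1) (by rw [Nat.card_zpowers, ht, pow_one])) ?_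
      intro s hs
      refine centralizer_le_normalizer _ ?_
      rw [InvChar.centralizer_zpowers]
      exact hSC hs
    rw [← S.is_maximal' h2 le_sup_left]
    exact mem_sup_right (mem_zpowers t)
  set N := normalizer (E : Set G) with hN
  have hfus : ∀ x ∈ E, IsConj t x → ∃ n ∈ N, n * t * n⁻¹ = x := by
    intro x hx hcx
    obtain ⟨g, hg, η, hηi, hηr, hηt, hηE⟩ := hfr x hx hcx
    have hle : E.map (MulAut.conj g).toMonoidHom ≤ η.range := by
      rw [hηr, ← hg]
      rintro _ ⟨y, hy, rfl⟩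
      exact hWf t g y (hWfW ▸ (inf_le_right : E ≤ W) hy)
    obtain ⟨θ, hθi, hθr, hθt, hθE⟩ := frame_of_le η hηi _ hle (by
      rw [card_map_of_injective (MulAut.conj g).injective, hE8])
    -- move the image back inside the weak closure
    have hmap : (E.map (MulAut.conj g).toMonoidHom).comap η ≤ ⊤ := le_top
    obtain ⟨w, hw⟩ := conj_eModel ((E.map (MulAut.conj g).toMonoidHom).comap η) (by
      rw [← card_map_of_injective hηi, map_comap_eq, inf_eq_right.2 hle,
        card_map_of_injective (MulAut.conj g).injective, hE8])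
    refine ⟨η w * g, ?_, ?_⟩
    · refine norm_of_subset fun y hy => ?_
      obtain ⟨z, hz⟩ := hle ⟨y, hy, rfl⟩
      have hz' : w * z * w⁻¹ ∈ eModel := hw ▸ ⟨z, ⟨y, hy, hz.symm⟩, rfl⟩
      have he : η w * g * y * (η w * g)⁻¹ = η (w * z * w⁻¹) := by
        rw [map_mul, map_mul, map_inv, hz]
        show _ = η w * (g * y * g⁻¹) * (η w)⁻¹
        group
      rw [he, hηE]
      exact ⟨_, hz', rfl⟩
    · rw [show η w * g * t * (η w * g)⁻¹ = η w * (g * t * g⁻¹) * (η w)⁻¹ by group, hg, ← hηt, ← map_inv,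
        ← map_mul, ← map_mul, central_t w, mul_inv_cancel_right]
  -- parity
  have hSN : (S : Subgroup G) ≤ N := fun s hs => norm_of_subset fun y hy =>
    ⟨(S : Subgroup G).mul_mem ((S : Subgroup G).mul_mem hs hy.1) ((S : Subgroup G).inv_mem hs), hWnorm s (hSC hs) y hy.2⟩
  have hodd : O.card % 2 = 1 := by
    set St := (C.subgroupOf N) with hSt
    have hidx : ¬ 2 ∣ St.index := by
      intro h2
      refine S.not_dvd_index (h2.trans ?_)
      rw [hSt, show (C.subgroupOf N).index = (C ⊓ N).relIndex N from (inf_relIndex_right C N).symm]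
      have h1 : (C ⊓ N).relIndex N ∣ (S : Subgroup G).relIndex N :=
        relIndex_dvd_of_le_left N (le_inf hSC hSN)
      exact h1.trans ⟨N.index, (relIndex_mul_index hSN).symm⟩
    let f : N ⧸ St → {v : Fin 8 // v ∈ O} := Quotient.lift (s := QuotientGroup.leftRel St)
      (fun n => ⟨(hEsv _ ((mem_normalizer_iff.1 n.2 t).1 ⟨hS', htW⟩)).choose, by
        rw [hmemO, (hEsv _ ((mem_normalizer_iff.1 n.2 t).1 ⟨hS', htW⟩)).choose_spec]
        exact isConj_iff.2 ⟨n, rfl⟩⟩) (by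
      intro a b hab
      have hab' := QuotientGroup.leftRel_apply.1 hab
      refine Subtype.ext (sv_inj _ _ (hεi ?_))
      rw [(hEsv _ ((mem_normalizer_iff.1 a.2 t).1 ⟨hS', htW⟩)).choose_spec,
        (hEsv _ ((mem_normalizer_iff.1 b.2 t).1 ⟨hS', htW⟩)).choose_spec]
      have hc : Commute ((a : G)⁻¹ * b) t := mem_cent_singleton.1 hab'
      calc (a : G) * t * (a : G)⁻¹ = (a : G) * (t * ((a : G)⁻¹ * b)) * (b : G)⁻¹ := by group
        _ = (b : G) * t * (b : G)⁻¹ := by rw [← hc.eq]; group)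
    have hf : Function.Bijective f := by
      constructor
      · rintro ⟨a⟩ ⟨b⟩ hab
        have hab' := congrArg (fun v : {v : Fin 8 // v ∈ O} => ε (sv v.1)) hab
        rw [(hEsv _ ((mem_normalizer_iff.1 a.2 t).1 ⟨hS', htW⟩)).choose_spec,
          (hEsv _ ((mem_normalizer_iff.1 b.2 t).1 ⟨hS', htW⟩)).choose_spec] at hab'
        refine QuotientGroup.eq.2 ?_
        show (a : G)⁻¹ * b ∈ C
        rw [hC, mem_cent_singleton, Commute, SemiconjBy]
        calc (a : G)⁻¹ * b * t = (a : G)⁻¹ * ((b : G) * t * (b : G)⁻¹) * b := by group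
          _ = t * ((a : G)⁻¹ * b) := by rw [← hab']; group
      · rintro ⟨v, hv⟩
        obtain ⟨n, hn, hnt⟩ := hfus _ (hsvE v) ((hmemO v).1 hv)
        refine ⟨QuotientGroup.mk ⟨n, hn⟩, Subtype.ext (sv_inj _ _ (hεi ?_))⟩
        exact ((hEsv _ ((mem_normalizer_iff.1 hn t).1 ⟨hS', htW⟩)).choose_spec).trans hnt
    have hcard : St.index = O.card := by
      rw [Subgroup.index, Nat.card_congr (Equiv.ofBijective f hf), Nat.card_eq_finsetCard]
    omega
  have hallO : ∀ v, v ≠ 0 → IsConj t (ε (sv v)) := fun v hv =>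
    (hmemO v).1 (orbit_all O hO1 hO0 hOb hodd hOne v hv)
  have hconj : ∀ x ∈ W, orderOf x = 2 → IsConj t x := by
    intro x hx hx2
    rw [← hεr] at hx
    obtain ⟨z, rfl⟩ := hx
    rw [orderOf_injective _ hεi] at hx2
    obtain ⟨w, v, hwv⟩ := invol_conj_sv z (by
      have := pow_orderOf_eq_one z; rwa [hx2, pow_two] at this)
    have hv : v ≠ 0 := by
      rintro rfl
      rw [sv_zero, conj_eq_one_iff] at hwv
      rw [hwv, orderOf_one] at hx2
      omega
    exact (hallO v hv).trans (isConj_iff.2 ⟨(ε w)⁻¹, by rw [← hwv, map_mul, map_mul, map_inv]; group⟩)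
  -- no element of the centraliser induces an outer automorphism
  have hpar : ∀ η : HM →* G, ∀ v, v = 2 ∨ v = 4 → η (sv v) ∈ ⁅η.range, η.range⁆ := by
    intro η v hv
    obtain ⟨x, y, -, hxy⟩ := sv_commutator v hv
    rw [← hxy, map_commutatorElement]
    exact commutator_mem_commutator ⟨x, rfl⟩ ⟨y, rfl⟩
  have hcommfst : ∀ η : HM →* G, Function.Injective η → ∀ z, η z ∈ ⁅η.range, η.range⁆ → z.1 = 1 := by
    intro η hη z hz
    rw [MonoidHom.range_eq_map, ← map_commutator] at hz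
    obtain ⟨z', hz', he⟩ := hz
    obtain rfl := hη he
    have hle : ⁅(⊤ : Subgroup HM), ⊤⁆ ≤ (MonoidHom.fst (Multiplicative (ZMod 2)) (alternatingGroup (Fin 5))).ker := by
      rw [commutator_le]
      intro a _ b _
      rw [MonoidHom.mem_ker, map_commutatorElement, commutatorElement_eq_one_iff_mul_comm]
      exact mul_comm _ _
    exact hle hz'
  have hmove : ∀ (m u : G) (K : Subgroup G), (∀ x ∈ K, m * x * m⁻¹ ∈ K) → u ∈ ⁅K, K⁆ → m * u * m⁻¹ ∈ ⁅K, K⁆ := by
    intro m u K hK hu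
    have hle : (⁅K, K⁆).map (MulAut.conj m).toMonoidHom ≤ ⁅K, K⁆ := by
      rw [map_commutator]
      refine commutator_mono ?_ ?_ <;> (rintro _ ⟨x, hx, rfl⟩; exact hK x hx)
    exact hle ⟨u, hu, rfl⟩
  have hsplit : C ≤ W ⊔ centralizer (W : Set G) := by
    intro c hc
    have hcW : ∀ x ∈ W, c * x * c⁻¹ ∈ W := hWnorm c hc
    have hle : E.map (MulAut.conj c).toMonoidHom ≤ ε.range := by
      rintro _ ⟨y, hy, rfl⟩
      rw [hεr]; exact hcW y hy.2
    obtain ⟨w, hw⟩ := conj_eModel ((E.map (MulAut.conj c).toMonoidHom).comap ε) (by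
      rw [← card_map_of_injective hεi, map_comap_eq, inf_eq_right.2 hle,
        card_map_of_injective (MulAut.conj c).injective, hE8])
    set n := ε w * c with hn
    have hnC : n ∈ C := mul_mem (hWC (hεW w)) hc
    have hnE : ∀ y ∈ E, n * y * n⁻¹ ∈ E := by
      intro y hy
      obtain ⟨z, hz⟩ := hle ⟨y, hy, rfl⟩
      have hz' : w * z * w⁻¹ ∈ eModel := hw ▸ ⟨z, ⟨y, hy, hz.symm⟩, rfl⟩
      have he : n * y * n⁻¹ = ε (w * z * w⁻¹) := by
        rw [map_mul, map_mul, map_inv, hz, hn]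
        show _ = ε w * (c * y * c⁻¹) * (ε w)⁻¹
        group
      rw [he, hεE]
      exact ⟨_, hz', rfl⟩
    have heven : ∀ (m : G) (v : Fin 8), m ∈ C → (∀ y ∈ E, m * y * m⁻¹ ∈ E) → (v = 2 ∨ v = 4) →
        ∃ u : Fin 8, (u = 2 ∨ u = beta 2 ∨ u = beta (beta 2)) ∧ m * ε (sv v) * m⁻¹ = ε (sv u) := by
      intro m v hm hmE hv
      obtain ⟨u, hu⟩ := hEsv _ (hmE _ (hsvE v))
      refine ⟨u, ?_, hu.symm⟩
      have h1 : (sv u).1 = 1 := hcommfst ε hεi _ (by
        rw [hu]
        exact hmove m _ _ (fun x hx => by rw [hεr] at hx ⊢; exact hWnorm m hm x hx) (hpar ε v hv))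
      refine vadd_one_two u ((sv_fst u).1 h1) ?_
      rintro rfl
      rw [sv_zero, map_one, eq_comm, conj_eq_one_iff] at hu
      exact hone v (by rcases hv with rfl | rfl <;> decide) hu
    have hh1 : h⁻¹ * ε (sv (beta 2)) * h = ε (sv 2) := by rw [← hbeta 2]; group
    have hh2 : h⁻¹ * h⁻¹ * ε (sv (beta (beta 2))) * (h * h) = ε (sv 2) := by
      rw [← hbeta, ← hbeta 2]; group
    have hhC : h ∈ C := hWC (hεW _)
    have hhE : ∀ y ∈ E, h⁻¹ * y * h⁻¹⁻¹ ∈ E := by
      intro y hy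
      obtain ⟨v, rfl⟩ := hEsv y hy
      rw [inv_inv, show h⁻¹ * ε (sv v) * h = ε (sv (beta (beta v))) by
        conv_lhs => rw [← beta_cycle v, ← hbeta]
        group]
      exact hsvE _
    obtain ⟨k, hkC, hkE, hkW, hk2⟩ : ∃ k : G, k ∈ C ∧ (∀ y ∈ E, k * y * k⁻¹ ∈ E) ∧ k ∈ W ∧
        (k * n) * ε (sv 2) * (k * n)⁻¹ = ε (sv 2) := by
      obtain ⟨u, hu, hnu⟩ := heven n 2 hnC hnE (Or.inl rfl)
      rcases hu with rfl | rfl | rfl
      · exact ⟨1, one_mem _, fun y hy => by simpa using hy, one_mem _, by rw [one_mul, hnu]⟩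
      · refine ⟨h⁻¹, inv_mem hhC, hhE, inv_mem (hεW _), ?_⟩
        rw [show h⁻¹ * n * ε (sv 2) * (h⁻¹ * n)⁻¹ = h⁻¹ * (n * ε (sv 2) * n⁻¹) * h by group, hnu, hh1]
      · refine ⟨h⁻¹ * h⁻¹, mul_mem (inv_mem hhC) (inv_mem hhC), fun y hy => ?_,
          mul_mem (inv_mem (hεW _)) (inv_mem (hεW _)), ?_⟩
        · rw [show h⁻¹ * h⁻¹ * y * (h⁻¹ * h⁻¹)⁻¹ = h⁻¹ * (h⁻¹ * y * h⁻¹⁻¹) * h⁻¹⁻¹ by simp [mul_assoc]]
          exact hhE _ (hhE _ hy)
        · rw [show h⁻¹ * h⁻¹ * n * ε (sv 2) * (h⁻¹ * h⁻¹ * n)⁻¹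
            = h⁻¹ * h⁻¹ * (n * ε (sv 2) * n⁻¹) * (h * h) by simp [mul_assoc], hnu, hh2]
    set m := k * n with hm
    have hmC : m ∈ C := mul_mem hkC hnC
    have hmE : ∀ y ∈ E, m * y * m⁻¹ ∈ E := fun y hy => by
      rw [show m * y * m⁻¹ = k * (n * y * n⁻¹) * k⁻¹ by rw [hm]; group]
      exact hkE _ (hnE y hy)
    set a := ε (sv 2) with ha
    have hmt : m * t * m⁻¹ = t := by rw [(mem_cent_singleton.1 hmC).eq, mul_inv_cancel_right]
    have hm4 : m * ε (sv 4) * m⁻¹ = ε (sv 4) ∨ m * ε (sv 4) * m⁻¹ = ε (sv 4) * a := by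
      obtain ⟨u, hu, hmu⟩ := heven m 4 hmC hmE (Or.inr rfl)
      rcases hu with rfl | rfl | rfl
      · exfalso
        have h24 : (4 : Fin 8) = 2 := by
          refine sv_inj _ _ (hεi ?_)
          have := hmu.trans hk2.symm
          exact mul_left_cancel (mul_right_cancel this)
        exact absurd h24 (by decide)
      · left; rw [hmu, beta_two.1]
      · right; rw [hmu, beta_two.2, sv_add, map_mul, ha, (hcommE _ (hsvE 2) _ (hsvE 4)).eq]
    have htwo : ∀ y ∈ E, m * y * m⁻¹ = y ∨ m * y * m⁻¹ = y * a := by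
      intro y hy
      obtain ⟨v, rfl⟩ := hEsv y hy
      rw [fin_cases_span v, sv_add, sv_add, map_mul, map_mul]
      set p := ε (sv (if v.val % 2 = 1 then 1 else 0)) with hp
      set q := ε (sv (if v.val / 2 % 2 = 1 then 2 else 0)) with hq
      set r := ε (sv (if v.val / 4 = 1 then 4 else 0)) with hr
      have h0 : m * ε (sv 0) * m⁻¹ = ε (sv 0) := by rw [sv_zero, map_one, mul_one, mul_inv_cancel]
      have hp' : m * p * m⁻¹ = p := by
        rw [hp]; split_ifs
        · rw [sv_one, hεt, hmt]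
        · exact h0
      have hq' : m * q * m⁻¹ = q := by
        rw [hq]; split_ifs
        · exact hk2
        · exact h0
      have hr' : m * r * m⁻¹ = r ∨ m * r * m⁻¹ = r * a := by
        rw [hr]; split_ifs
        · exact hm4
        · exact Or.inl h0
      rcases hr' with hr' | hr' <;> [left; right] <;>
        calc m * (p * q * r) * m⁻¹ = (m * p * m⁻¹) * (m * q * m⁻¹) * (m * r * m⁻¹) := by group
          _ = _ := by rw [hp', hq', hr']; all_goals simp [mul_assoc]
    obtain ⟨g, -, η, hηi, hηr, hηt, hηE⟩ := hfr a (hsvE 2) (hallO 2 (by decide))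
    have hηsv : ∀ v, η (sv v) ∈ E := fun v => by rw [hηE]; exact ⟨sv v, ⟨v, rfl⟩, rfl⟩
    have hma : ∀ x ∈ η.range, m * x * m⁻¹ ∈ η.range := by
      intro x hx
      rw [hηr] at hx ⊢
      have := hWf a m x hx
      rwa [hk2] at this
    have hfixη : ∀ v, v = 2 ∨ v = 4 → m * η (sv v) * m⁻¹ = η (sv v) := by
      intro v hv
      rcases htwo _ (hηsv v) with h1 | h1
      · exact h1
      exfalso
      rw [← hηt, ← map_mul] at h1
      have := hcommfst η hηi (sv v * g0 3) (h1 ▸ hmove m _ _ hma (hpar η v hv))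
      rw [← sv_one, ← sv_add] at this
      have := (sv_fst _).1 this
      rcases hv with rfl | rfl <;> exact absurd this (by decide)
    have hfix : ∀ y ∈ E, m * y * m⁻¹ = y := by
      intro y hy
      rw [hηE] at hy
      obtain ⟨_, ⟨v, rfl⟩, rfl⟩ := hy
      rw [fin_cases_span v, sv_add, sv_add, map_mul, map_mul]
      have h0 : m * η (sv 0) * m⁻¹ = η (sv 0) := by rw [sv_zero, map_one, mul_one, mul_inv_cancel]
      have e1 : m * η (sv (if v.val % 2 = 1 then 1 else 0)) * m⁻¹ = η (sv (if v.val % 2 = 1 then 1 else 0)) := by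
        split_ifs
        · rw [sv_one, hηt]; exact hk2
        · exact h0
      have e2 : m * η (sv (if v.val / 2 % 2 = 1 then 2 else 0)) * m⁻¹ = η (sv (if v.val / 2 % 2 = 1 then 2 else 0)) := by
        split_ifs
        · exact hfixη 2 (Or.inl rfl)
        · exact h0
      have e3 : m * η (sv (if v.val / 4 = 1 then 4 else 0)) * m⁻¹ = η (sv (if v.val / 4 = 1 then 4 else 0)) := by
        split_ifs
        · exact hfixη 4 (Or.inr rfl)
        · exact h0
      conv_rhs => rw [← e1, ← e2, ← e3]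
      group
    -- the induced automorphism is inner
    have hmW : ∀ x ∈ W, m * x * m⁻¹ ∈ W := hWnorm m hmC
    have hmW' : ∀ x ∈ W, m⁻¹ * x * m⁻¹⁻¹ ∈ W := hWnorm m⁻¹ (inv_mem hmC)
    let εe : HM ≃* W := (MonoidHom.ofInjective hεi).trans (MulEquiv.subgroupCongr hεr)
    let μ : W ≃* W :=
      { toFun := fun x => ⟨m * x * m⁻¹, hmW x x.2⟩
        invFun := fun x => ⟨m⁻¹ * x * m⁻¹⁻¹, hmW' x x.2⟩
        left_inv := fun x => Subtype.ext (by show m⁻¹ * (m * x * m⁻¹) * m⁻¹⁻¹ = x; group)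
        right_inv := fun x => Subtype.ext (by show m * (m⁻¹ * x * m⁻¹⁻¹) * m⁻¹ = x; group)
        map_mul' := fun x y => Subtype.ext (by show m * (x * y) * m⁻¹ = m * x * m⁻¹ * (m * y * m⁻¹); group) }
    have hεe : ∀ z, ((εe z : W) : G) = ε z := fun z => rfl
    let φ : HM ≃* HM := εe.trans (μ.trans εe.symm)
    have hφ : ∀ z, ε (φ z) = m * ε z * m⁻¹ := fun z => by
      rw [← hεe, ← hεe]
      show ((εe (εe.symm (μ (εe z))) : W) : G) = _
      rw [MulEquiv.apply_symm_apply]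
      rfl
    obtain ⟨w', hw'⟩ := aut_inner φ fun v => hεi (by rw [hφ]; exact hfix _ (hsvE v))
    have hd : (ε w')⁻¹ * m ∈ centralizer (W : Set G) := by
      intro x hx
      rw [← hεr] at hx
      obtain ⟨z, rfl⟩ := hx
      have := hφ z
      rw [hw', map_mul, map_mul, map_inv] at this
      calc ε z * ((ε w')⁻¹ * m) = (ε w')⁻¹ * (ε w' * ε z * (ε w')⁻¹) * m := by group
        _ = (ε w')⁻¹ * m * ε z := by rw [this]; group
    rw [show c = ((ε w)⁻¹ * k⁻¹ * ε w') * ((ε w')⁻¹ * m) by rw [hm, hn]; group]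
    exact mul_mem (mem_sup_left (mul_mem (mul_mem (inv_mem (hεW w)) (inv_mem hkW)) (hεW w')))
      (mem_sup_right hd)
  exact ⟨⟨t, W, e, htW, het, hconj, hclosed, hsplit⟩, rfl⟩

theorem normalClosure_map {G : Type*} [Group G] (K : Subgroup G) (t : K) :
    (normalClosure ({t} : Set K)).map K.subtype =
      closure {x | ∃ k ∈ K, x = k * (t : G) * k⁻¹} := by
  unfold Subgroup.normalClosure
  rw [MonoidHom.map_closure]
  congr 1
  ext x
  constructor
  · rintro ⟨y, hy, rfl⟩
    obtain ⟨a, ha, hc⟩ := Group.mem_conjugatesOfSet_iff.1 hy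
    rw [Set.mem_singleton_iff] at ha
    obtain ⟨k, rfl⟩ := isConj_iff.1 (ha ▸ hc)
    exact ⟨k, k.2, rfl⟩
  · rintro ⟨k, hk, rfl⟩
    exact ⟨⟨k, hk⟩ * t * ⟨k, hk⟩⁻¹,
      Group.mem_conjugatesOfSet_iff.2 ⟨t, rfl, isConj_iff.2 ⟨_, rfl⟩⟩, rfl⟩

theorem core_aux : ∀ (n : ℕ) (G : Type u) [Group G] [Finite G] (D : Hyp G), Nat.card G = n →
    IsSimpleGroup (normalClosure ({D.t} : Set G)) ∧
      Nat.card (normalClosure ({D.t} : Set G)) = 175560 := by
  intro n
  induction n using Nat.strong_induction_on with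
  | _ n ih =>
    intro G _ _ D hn
    have ht2 := D.ord
    have ht1 : D.t ≠ 1 := fun h => by rw [h, orderOf_one] at ht2; omega
    have IH : ∀ K : Subgroup G, K ≠ ⊤ → (∀ b ∈ D.E0, b ≠ 1 → D.Wu b ≤ K) →
        IsSimpleGroup (D.orbitClosure K) ∧ Nat.card (D.orbitClosure K) = 175560 := by
      intro K hK hKW
      have hlt : Nat.card K < n := by
        rw [← hn]
        refine lt_of_le_of_ne K.card_le_card_group fun h => hK (Subgroup.eq_top_of_card_eq K h)
      obtain ⟨hs, hc⟩ := ih _ hlt K (D.restrict K hKW) rfl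
      have he := normalClosure_map K (D.restrict K hKW).t
      rw [D.restrict_t K hKW] at he
      let eqv := (equivMapOfInjective (normalClosure ({(D.restrict K hKW).t} : Set K)) K.subtype
        K.subtype_injective).trans (MulEquiv.subgroupCongr he)
      refine ⟨?_, by rw [← hc]; exact (Nat.card_congr eqv.toEquiv).symm⟩
      haveI := hs
      haveI : Nontrivial (D.orbitClosure K) := eqv.symm.toEquiv.nontrivial
      exact IsSimpleGroup.isSimpleGroup_of_surjective eqv.toMonoidHom eqv.surjective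
    set K0 := normalClosure ({D.t} : Set G) with hK0
    have htK0 : D.t ∈ K0 := subset_normalClosure rfl
    have hconjK0 : ∀ u, IsConj D.t u → u ∈ K0 := fun u hu => by
      obtain ⟨g, rfl⟩ := isConj_iff.1 hu
      exact (normalClosure_normal).conj_mem _ htK0 g
    have hWK0 : ∀ b ∈ D.E0, b ≠ 1 → D.Wu b ≤ K0 := fun b _ _ =>
      (closure_le _).2 fun x hx => hconjK0 x hx.1
    by_cases htop : K0 = ⊤
    · have hperf : commutator G = ⊤ := by
        rw [eq_top_iff, ← htop]
        refine normalClosure_le_normal (Set.singleton_subset_iff.2 ?_)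
        obtain ⟨x, y, -, hxy⟩ := sv_commutator 2 (Or.inl rfl)
        have ha : D.ι (sv 2) ∈ commutator G := by
          rw [← hxy, map_commutatorElement, _root_.commutator_def]
          exact commutator_mem_commutator (mem_top _) (mem_top _)
        have hne : D.ι (sv 2) ≠ 1 := fun h =>
          absurd (sv_inj 2 0 (D.ι_injective (by rw [h, sv_zero, map_one]))) (by decide)
        obtain ⟨g, hg⟩ := isConj_iff.1 (D.isE_E0.conj _ ⟨sv 2, ⟨2, rfl⟩, rfl⟩ hne).symm
        exact hg ▸ (Subgroup.normal_of_characteristic (commutator G)).conj_mem _ ha g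
      obtain ⟨hs, hc⟩ := D.simple_of_connected hperf htop fun u hu => D.connected hperf IH hu
      rw [htop]
      refine ⟨?_, by rw [card_top, hc]⟩
      haveI := hs
      haveI : Nontrivial (⊤ : Subgroup G) := Subgroup.topEquiv.toEquiv.nontrivial
      exact IsSimpleGroup.isSimpleGroup_of_surjective (Subgroup.topEquiv (G := G)).symm.toMonoidHom
        (Subgroup.topEquiv (G := G)).symm.surjective
    · obtain ⟨hs, hc⟩ := IH K0 htop hWK0
      set J := D.orbitClosure K0 with hJ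
      haveI := hs
      have hJK : J ≤ K0 := (closure_le _).2 fun x ⟨k, hk, e⟩ => e ▸ mul_mem (mul_mem hk htK0) (inv_mem hk)
      have hJn : ∀ k ∈ K0, ∀ x ∈ J, k * x * k⁻¹ ∈ J := by
        intro k hk x hx
        have hle : J ≤ J.comap (MulAut.conj k).toMonoidHom := (closure_le _).2 fun y ⟨j, hj, e⟩ =>
          subset_closure ⟨k * j, mul_mem hk hj, by rw [e]; show k * (j * D.t * j⁻¹) * k⁻¹ = _; group⟩
        exact hle hx
      have htJ : D.t ∈ J := subset_closure ⟨1, one_mem _, by simp⟩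
      have hWJ : D.W ≤ J := by
        rw [D.W_eq]
        refine (closure_le _).2 fun x hx => ?_
        have hxW : x ∈ D.W := D.closed x hx.1 hx.2
        have hxo : orderOf x = 2 := by
          obtain ⟨g, rfl⟩ := isConj_iff.1 hx.1
          rw [← MulAut.conj_apply, MulEquiv.orderOf_eq, ht2]
        have hxK : x ∈ K0 := hconjK0 x hx.1
        obtain ⟨k, hk⟩ := isConj_iff.1 ((D.restrict K0 hWK0).conj ⟨x, hxK⟩ hxW (by rw [orderOf_mk, hxo]))
        exact subset_closure ⟨(k : G), k.2, (congrArg Subtype.val hk).symm⟩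
      suffices h : K0 = J by rw [h]; exact ⟨hs, hc⟩
      refine le_antisymm ((closure_le _).2 fun u hu => ?_) hJK
      obtain ⟨a, ha, hau⟩ := Group.mem_conjugatesOfSet_iff.1 hu
      rw [Set.mem_singleton_iff] at ha
      obtain ⟨g, rfl⟩ := isConj_iff.1 (ha ▸ hau)
      set L := J.map (MulAut.conj g).toMonoidHom with hL
      haveI hnor : (L.subgroupOf J).Normal := ⟨fun z hz j => by
        obtain ⟨y, hy, hyz⟩ := hz
        refine ⟨(g⁻¹ * j * g) * y * (g⁻¹ * j * g)⁻¹,
          hJn _ (by simpa using (normalClosure_normal).conj_mem (j : G) (hJK j.2) g⁻¹) y hy, ?_⟩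
        show g * ((g⁻¹ * j * g) * y * (g⁻¹ * j * g)⁻¹) * g⁻¹ = (j : G) * z * (j : G)⁻¹
        rw [show (z : G) = g * y * g⁻¹ from hyz.symm]
        group⟩
      rcases hnor.eq_bot_or_eq_top with h | h
      · -- the two blocks commute, so the conjugate lies in the weak closure
        have huL : g * D.t * g⁻¹ ∈ L := ⟨D.t, htJ, rfl⟩
        have hcomm : Commute (g * D.t * g⁻¹) D.t := by
          have h1 : ⁅g * D.t * g⁻¹, D.t⁆ ∈ L := by
            rw [commutatorElement_def, show g * D.t * g⁻¹ * D.t * (g * D.t * g⁻¹)⁻¹ * D.t⁻¹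
              = (g * D.t * g⁻¹) * (D.t * (g * D.t * g⁻¹)⁻¹ * D.t⁻¹) by group]
            refine mul_mem huL ⟨(g⁻¹ * D.t * g) * D.t⁻¹ * (g⁻¹ * D.t * g)⁻¹, hJn _ ?_ _ (inv_mem htJ), ?_⟩
            · simpa using (normalClosure_normal).conj_mem D.t htK0 g⁻¹
            · show g * ((g⁻¹ * D.t * g) * D.t⁻¹ * (g⁻¹ * D.t * g)⁻¹) * g⁻¹ = _
              group
          have h2 : ⁅g * D.t * g⁻¹, D.t⁆ ∈ J := by
            rw [commutatorElement_def]
            exact mul_mem (hJn _ (hconjK0 _ (isConj_iff.2 ⟨g, rfl⟩)) _ htJ) (inv_mem htJ)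
          have h3 : (⟨_, h2⟩ : J) ∈ L.subgroupOf J := h1
          rw [h, mem_bot, Subtype.ext_iff] at h3
          exact commutatorElement_eq_one_iff_mul_comm.1 h3
        exact hWJ (D.closed _ (isConj_iff.2 ⟨g, rfl⟩) hcomm)
      · have hle := subgroupOf_eq_top.1 h
        have heq := eq_of_le_of_card_ge hle (by rw [hL, card_map_of_injective (MulAut.conj g).injective])
        rw [heq]
        exact ⟨D.t, htJ, rfl⟩

theorem main {G : Type u} [Group G] [Finite G] (t : G) (ht : orderOf t = 2) (S : Sylow 2 G)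
    (hS : ∀ s ∈ (S : Subgroup G), s * t = t * s)
    (hW : Nonempty (↥(Subgroup.closure {x : G | ∃ g : G, x = g * t * g⁻¹ ∧ x * t = t * x}) ≃* HM)) :
    Cfsg.Spor.IsoJ1 (normalClosure ({t} : Set G)) := by
  obtain ⟨D, rfl⟩ := exists_hyp t ht S hS hW
  obtain ⟨hs, hc⟩ := core_aux _ G D rfl
  haveI := hs
  haveI := Recog71.J1.isSimpleGroup_J1
  exact J1Order38.nonempty_mulEquiv hc Recog71.J1.card_J1

end Cfsg.Agent.WeakJ1
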