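import Cfsg.Agent.WeakJ1.Hyp
import Cfsg.Agent.J1Cent38.Main
import Cfsg.Agent.Recog71.J1Simple
import Cfsg.Agent.InvChar.ZStarApps
import Cfsg.Agent.S0215
import Cfsg.Agent.S0058
import Cfsg.Agent.S2065

/-!
The commuting graph of the conjugates is connected: otherwise a block stabiliser is a strongly
embedded-like subgroup built on the smallest Janko group, which has too few inverted elements.
-/

set_option autoImplicit false
set_option linter.style.haveILetI false

namespace Cfsg.Agent.WeakJ1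

open Cfsg.Agent.J1Order38.Model Subgroup
open scoped commutatorElement

universe u

/-- Automorphisms of a simple group of order 175560 are inner. -/
theorem aut_conj {X : Type u} [Group X] [Finite X] [IsSimpleGroup X] (hX : Nat.card X = 175560)
    (φ : X ≃* X) : ∃ j : X, ∀ x, φ x = j * x * j⁻¹ := by
  haveI := Recog71.J1.isSimpleGroup_J1
  obtain ⟨e⟩ := J1Order38.nonempty_mulEquiv hX Recog71.J1.card_J1
  have htop : Cfsg.Inn Cfsg.Spor.J1 = ⊤ := by
    rw [← Subgroup.index_eq_one]
    exact S2065.result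
  obtain ⟨j, hj⟩ : (e.symm.trans (φ.trans e)) ∈ Cfsg.Inn Cfsg.Spor.J1 := htop ▸ mem_top _
  refine ⟨e.symm j, fun x => e.injective ?_⟩
  have h := DFunLike.congr_fun hj (e x)
  simp only [MulAut.conj_apply, MulEquiv.trans_apply, MulEquiv.symm_apply_apply] at h
  rw [map_mul, map_mul, map_inv, MulEquiv.apply_symm_apply, h]

variable {G : Type u} [Group G] (D : Hyp G)

/-- Adjacency of commuting conjugates. -/
def Hyp.Adj (u v : G) : Prop := IsConj D.t u ∧ IsConj D.t v ∧ Commute u v

/-- Connectedness. -/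
def Hyp.Reach : G → G → Prop := Relation.ReflTransGen D.Adj

theorem Hyp.Reach.symm' {u v : G} (h : D.Reach u v) : D.Reach v u := by
  induction h with
  | refl => exact .refl
  | tail _ hbc ih => exact Relation.ReflTransGen.head ⟨hbc.2.1, hbc.1, hbc.2.2.symm⟩ ih

theorem Hyp.Reach.conj {u v : G} (g : G) (h : D.Reach u v) :
    D.Reach (g * u * g⁻¹) (g * v * g⁻¹) :=
  by
  induction h with
  | refl => exact .refl
  | tail _ hbc ih =>
    exact Relation.ReflTransGen.tail ih ⟨hbc.1.trans (isConj_iff.2 ⟨g, rfl⟩),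
      hbc.2.1.trans (isConj_iff.2 ⟨g, rfl⟩), hbc.2.2.map (MulAut.conj g).toMonoidHom⟩

theorem Hyp.Reach.isConj {u : G} (h : D.Reach D.t u) : IsConj D.t u := by
  cases h with
  | refl => exact IsConj.refl _
  | tail _ h => exact h.2.1

/-- The stabiliser of the block of the base point. -/
def Hyp.block : Subgroup G where
  carrier := {g | D.Reach D.t (g * D.t * g⁻¹)}
  one_mem' := by
    show D.Reach D.t (1 * D.t * 1⁻¹)
    rw [one_mul, inv_one, mul_one]
    exact .refl
  mul_mem' := by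
    intro a b ha hb
    show D.Reach D.t (a * b * D.t * (a * b)⁻¹)
    rw [show a * b * D.t * (a * b)⁻¹ = a * (b * D.t * b⁻¹) * a⁻¹ by group]
    exact Relation.ReflTransGen.trans ha (Hyp.Reach.conj D a hb)
  inv_mem' := by
    intro a ha
    show D.Reach D.t (a⁻¹ * D.t * a⁻¹⁻¹)
    have h := Hyp.Reach.conj D a⁻¹ ha
    rw [show a⁻¹ * (a * D.t * a⁻¹) * a⁻¹⁻¹ = D.t by group] at h
    exact Hyp.Reach.symm' D h

theorem Hyp.mem_block_of {u g : G} (hu : D.Reach D.t u) (h : D.Reach D.t (g * u * g⁻¹)) :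
    g ∈ D.block :=
  show D.Reach D.t (g * D.t * g⁻¹) from
    Relation.ReflTransGen.trans h (Hyp.Reach.symm' D (Hyp.Reach.conj D g hu))

theorem Hyp.cent_le_block {u c : G} (hu : D.Reach D.t u) (hc : Commute c u) : c ∈ D.block :=
  D.mem_block_of hu (by rw [hc.eq, mul_inv_cancel_right]; exact hu)

theorem Hyp.reach_adj {u v : G} (hu : D.Reach D.t u) (hv : IsConj D.t v) (h : Commute v u) :
    D.Reach D.t v :=
  Relation.ReflTransGen.tail hu ⟨Hyp.Reach.isConj D hu, hv, h.symm⟩

theorem Hyp.Wu_le_block {u : G} (hu : D.Reach D.t u) : D.Wu u ≤ D.block :=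
  (closure_le _).2 fun _ hx => D.cent_le_block hu hx.2

theorem Hyp.reach_E0 {b : G} (hb : b ∈ D.E0) (hb1 : b ≠ 1) : D.Reach D.t b :=
  D.reach_adj .refl (D.isE_E0.conj b hb hb1) (D.isE_E0.comm b hb _ D.t_mem_E0)

/-- The closure of an orbit of the base point. -/
def Hyp.orbitClosure (K : Subgroup G) : Subgroup G := closure {x | ∃ k ∈ K, x = k * D.t * k⁻¹}

theorem Hyp.connected [Finite G] (hperf : commutator G = ⊤)
    (IH : ∀ K : Subgroup G, K ≠ ⊤ → (∀ b ∈ D.E0, b ≠ 1 → D.Wu b ≤ K) →
      IsSimpleGroup (D.orbitClosure K) ∧ Nat.card (D.orbitClosure K) = 175560)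
    {u : G} (hu : IsConj D.t u) : D.Reach D.t u := by
  classical
  haveI : Fact (Nat.Prime 2) := ⟨Nat.prime_two⟩
  set H := D.block with hHdef
  by_cases hH : H = ⊤
  · obtain ⟨g, rfl⟩ := isConj_iff.1 hu
    exact (hH ▸ mem_top g : g ∈ H)
  exfalso
  obtain ⟨hJs, hJc⟩ := IH H hH fun b hb hb1 => D.Wu_le_block (D.reach_E0 hb hb1)
  set J := D.orbitClosure H with hJdef
  haveI := hJs
  have ht2 := D.ord
  have ht1 : D.t ≠ 1 := fun h => by rw [h, orderOf_one] at ht2; omega
  have htt : D.t * D.t = 1 := by rw [← pow_two, ← ht2, pow_orderOf_eq_one]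
  have htH : D.t ∈ H := D.cent_le_block .refl (Commute.refl _)
  have hgen : ∀ x, D.Reach D.t x → x ∈ J := fun x hx => by
    obtain ⟨g, rfl⟩ := isConj_iff.1 (Hyp.Reach.isConj D hx)
    exact subset_closure ⟨g, hx, rfl⟩
  have hWJ : ∀ v, D.Reach D.t v → D.Wu v ≤ J := fun v hv =>
    (closure_le _).2 fun x hx => hgen x (D.reach_adj hv hx.1 hx.2)
  have hJH : J ≤ H := (closure_le _).2 fun x ⟨k, hk, e⟩ => e ▸ mul_mem (mul_mem hk htH) (inv_mem hk)
  have hJnorm : ∀ h ∈ H, ∀ x ∈ J, h * x * h⁻¹ ∈ J := by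
    intro h hh x hx
    have hle : J ≤ J.comap (MulAut.conj h).toMonoidHom := (closure_le _).2 fun y ⟨k, hk, e⟩ =>
      subset_closure ⟨h * k, mul_mem hh hk, by rw [e]; show h * (k * D.t * k⁻¹) * h⁻¹ = _; group⟩
    exact hle hx
  have hinv : ∀ x : J, orderOf x = 2 → D.Reach D.t (x : G) := by
    intro x hx
    obtain ⟨j, hj⟩ := J1Order38.conj_involutions hJc (a := ⟨D.t, hgen _ .refl⟩)
      (by rw [orderOf_mk]; exact ht2) hx
    rw [← hj]
    exact hJH j.2
  -- projection to the block group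
  have hcentre : ∀ x : J, (∀ y : J, (x : G) * y = y * x) → x = 1 := by
    intro x hx
    have hmem : x ∈ center J := mem_center_iff.2 fun y => Subtype.ext (hx y).symm
    rcases (inferInstance : (center J).Normal).eq_bot_or_eq_top with h | h
    · rw [h] at hmem; exact hmem
    · exact absurd ⟨⟨fun a b => mem_center_iff.1 (h ▸ mem_top b : b ∈ center J) a⟩⟩
        (J1Order38.not_comm hJc)
  have hex : ∀ h : H, ∃ j : J, (j : G)⁻¹ * h ∈ centralizer (J : Set G) := by
    rintro ⟨h, hh⟩
    let φ : J ≃* J :=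
      { toFun := fun x => ⟨h * x * h⁻¹, hJnorm h hh x x.2⟩
        invFun := fun x => ⟨h⁻¹ * x * h, by simpa using hJnorm h⁻¹ (inv_mem hh) x x.2⟩
        left_inv := fun x => Subtype.ext (by show h⁻¹ * (h * x * h⁻¹) * h = x; group)
        right_inv := fun x => Subtype.ext (by show h * (h⁻¹ * x * h) * h⁻¹ = x; group)
        map_mul' := fun x y => Subtype.ext (by show h * (x * y) * h⁻¹ = h * x * h⁻¹ * (h * y * h⁻¹); group) }
    obtain ⟨j, hj⟩ := aut_conj hJc φ
    refine ⟨j, fun x hx => ?_⟩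
    have e : h * x * h⁻¹ = (j : G) * x * (j : G)⁻¹ := congrArg Subtype.val (hj ⟨x, hx⟩)
    calc x * ((j : G)⁻¹ * h) = (j : G)⁻¹ * ((j : G) * x * (j : G)⁻¹) * h := by group
      _ = (j : G)⁻¹ * h * x := by rw [← e]; group
  choose p hp using hex
  have huniq : ∀ (h : H) (j : J), (j : G)⁻¹ * h ∈ centralizer (J : Set G) → j = p h := by
    intro h j hj
    have hc : ((j⁻¹ * p h : J) : G) ∈ centralizer (J : Set G) := by
      rw [show ((j⁻¹ * p h : J) : G) = (j : G)⁻¹ * h * ((p h : G)⁻¹ * h)⁻¹ by simp [mul_assoc]]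
      exact mul_mem hj (inv_mem (hp h))
    have h1 := hcentre _ fun y => (hc y y.2).symm
    rwa [inv_mul_eq_one] at h1
  let π : H →* J := MonoidHom.mk' p fun a b => by
    refine (huniq _ _ ?_).symm
    have hb : Commute ((p b : G)) ((p a : G)⁻¹ * a) := hp a _ (p b).2
    rw [show ((p a * p b : J) : G)⁻¹ * ((a * b : H) : G)
        = ((p b : G)⁻¹ * ((p a : G)⁻¹ * a) * p b) * ((p b : G)⁻¹ * b) by simp [mul_assoc],
      mul_assoc _ _ (p b : G), ← hb.eq, inv_mul_cancel_left]
    exact mul_mem (hp a) (hp b)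
  have hπ : ∀ h : H, (π h : G)⁻¹ * h ∈ centralizer (J : Set G) := hp
  have hπJ : ∀ j : J, π ⟨j, hJH j.2⟩ = j := fun j => (huniq _ j (by
    show (j : G)⁻¹ * (j : G) ∈ _
    rw [inv_mul_cancel]; exact one_mem _)).symm
  have hπcomm : ∀ (h : H) (x : J), Commute (π h : G) x → Commute (h : G) x := by
    intro h x hx
    have h2 : Commute (x : G) ((π h : G)⁻¹ * h) := hπ h x x.2
    have := hx.mul_left h2.symm
    rwa [mul_inv_cancel_left] at this
  have hsq : ∀ (x : J) (k : ℕ), x ^ 2 ^ k = 1 → x * x = 1 := by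
    intro x k hk
    have hp2 : IsPGroup 2 (zpowers x) := by
      obtain ⟨m, -, hm⟩ := (Nat.dvd_prime_pow Nat.prime_two).1 (orderOf_dvd_of_pow_eq_one hk)
      exact IsPGroup.of_card (n := m) (by rw [Nat.card_zpowers, hm])
    obtain ⟨T, hT⟩ := hp2.exists_le_sylow
    exact (J1Order38.two_elementary hJc T).2 x (hT (mem_zpowers x))
  have hcomm2 : ∀ (h : H) (k : ℕ), h ^ 2 ^ k = 1 → ∃ u : J, orderOf u = 2 ∧ Commute (h : G) u := by
    intro h k hk
    have h2 : π h * π h = 1 := hsq _ k (by rw [← map_pow, hk, map_one])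
    by_cases h1 : π h = 1
    · refine ⟨⟨D.t, hgen _ .refl⟩, by rw [orderOf_mk]; exact ht2, hπcomm _ _ ?_⟩
      rw [h1]; exact Commute.one_left _
    · exact ⟨π h, orderOf_two h2 h1, hπcomm _ _ (Commute.refl _)⟩
  have hmeet : ∀ v, IsConj D.t v → v ∈ H → D.Reach D.t v := by
    intro v hv hvH
    have hv2 : v ^ 2 ^ 1 = 1 := by
      obtain ⟨g, rfl⟩ := isConj_iff.1 hv
      rw [pow_one, conj_pow, pow_two, htt, mul_one, mul_inv_cancel]
    obtain ⟨u, hu2, hc⟩ := hcomm2 ⟨v, hvH⟩ 1 (Subtype.ext hv2)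
    exact D.reach_adj (hinv u hu2) hv hc
  -- centralisers of elements acting as involutions
  have hA : ∀ e : H, orderOf (π e) = 2 → ∀ y : G, Commute y (e : G) → y ∈ H := by
    intro e he y₀ hy₀
    set a : G := (π e : G) with ha
    have hra := hinv _ he
    have haconj := Hyp.Reach.isConj D hra
    have hae : Commute (e : G) a := hπcomm e _ (Commute.refl _)
    set Y := centralizer ({(e : G)} : Set G) with hY
    have haY : a ∈ Y := mem_cent_singleton.2 hae.symm
    let a' : Y := ⟨a, haY⟩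
    have ha' : orderOf a' = 2 := by rw [orderOf_mk, ha, orderOf_coe, he]
    obtain ⟨P, haP, hPiso⟩ := InvChar.exists_sylow_isolated ha' fun y hy => by
      have hc : Commute ((y : G) * a * (y : G)⁻¹) a := (hy.symm).map Y.subtype
      have hre := D.reach_adj hra (haconj.trans (isConj_iff.2 ⟨_, rfl⟩)) hc
      have hyH : (y : G) ∈ H := D.mem_block_of hra hre
      refine Subtype.ext ?_
      show (y : G) * a * (y : G)⁻¹ = a
      have hye : (⟨y, hyH⟩ : H) * e = e * ⟨y, hyH⟩ := Subtype.ext (mem_cent_singleton.1 y.2).eq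
      have hπe : π ⟨y, hyH⟩ * π e = π e * π ⟨y, hyH⟩ := by rw [← map_mul, hye, map_mul]
      have := hπcomm ⟨y, hyH⟩ (π e) (congrArg Subtype.val hπe)
      rw [show (y : G) * a = a * y from this.eq, mul_inv_cancel_right]
    obtain ⟨N, hN, hNodd, hNc⟩ := S0215.result P a' ha' haP hPiso
    obtain ⟨D', hD't, hD'W, hiff⟩ := D.exists_at haconj
    have hE := D'.isE_E0
    have hEJ : ∀ x ∈ D'.E0, x ∈ J := fun x hx => hWJ _ hra (hD'W ▸ D'.E0_le hx)
    have hEY : D'.E0 ≤ Y := by
      intro x hx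
      refine mem_cent_singleton.2 (hπcomm e ⟨x, hEJ x hx⟩ ?_).symm
      have := hE.comm x hx _ D'.t_mem_E0
      rw [hD't] at this
      exact this.symm
    have hNH : ∀ z ∈ N.map Y.subtype, z ∈ H := by
      haveI : IsMulCommutative D'.E0 := ⟨⟨fun x y => Subtype.ext (hE.comm x x.2 y y.2).eq⟩⟩
      have hncyc : ¬ IsCyclic D'.E0 := by
        intro hcy
        obtain ⟨g, hg⟩ := IsCyclic.exists_generator (α := D'.E0)
        have h2 : orderOf g ≤ 2 := orderOf_le_of_pow_eq_one two_pos (Subtype.ext (by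
          rw [pow_two]; exact hE.sq g.2))
        have h8 : orderOf g = 8 := by
          rw [orderOf_eq_card_of_forall_mem_zpowers hg, hE.card]
        omega
      have hnorm : D'.E0 ≤ normalizer ((N.map Y.subtype : Subgroup G) : Set G) := by
        intro x hx
        rw [mem_normalizer_iff]
        intro z
        constructor
        · rintro ⟨z', hz', rfl⟩
          exact ⟨⟨x, hEY hx⟩ * z' * ⟨x, hEY hx⟩⁻¹, hN.conj_mem z' hz' _, rfl⟩
        · rintro ⟨z', hz', e'⟩
          refine ⟨⟨x, hEY hx⟩⁻¹ * z' * ⟨x, hEY hx⟩⁻¹⁻¹, hN.conj_mem z' hz' _, ?_⟩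
          show x⁻¹ * (z' : G) * x⁻¹⁻¹ = z
          rw [show (z' : G) = x * z * x⁻¹ from e']; group
      have hcop : (Nat.card D'.E0).Coprime (Nat.card (N.map Y.subtype)) := by
        rw [card_map_of_injective Y.subtype_injective, hE.card]
        exact Nat.Coprime.pow_left 3 (Nat.coprime_two_left.2 hNodd)
      intro z hz
      rw [← S0058.result D'.E0 (N.map Y.subtype) hncyc hnorm hcop] at hz
      refine (iSup₂_le fun b hb => ?_ : _ ≤ H) hz
      rintro w ⟨-, hw⟩
      have hb' : D.Reach D.t b := D.reach_adj hra ((hiff b).1 (hE.conj b hb.1 hb.2)) (by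
        have := hE.comm b hb.1 _ D'.t_mem_E0
        rwa [hD't] at this)
      exact D.cent_le_block hb' (mem_cent_singleton.1 hw)
    have h1 := hNH _ ⟨_, hNc ⟨y₀, mem_cent_singleton.2 hy₀⟩, rfl⟩
    have hyay : y₀ * a * y₀⁻¹ ∈ H := by
      have h2 : a * y₀ * a⁻¹ * y₀⁻¹ ∈ H := h1
      have h3 := mul_mem (inv_mem (hJH (π e).2)) h2
      rw [show a⁻¹ * (a * y₀ * a⁻¹ * y₀⁻¹) = (y₀ * a * y₀⁻¹)⁻¹ by group] at h3
      exact inv_mem_iff.1 h3
    exact D.mem_block_of hra (hmeet _ (haconj.trans (isConj_iff.2 ⟨_, rfl⟩)) hyay)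
  -- counting
  haveI : Fintype (G ⧸ H) := Fintype.ofFinite _
  haveI : Fintype {x : G // IsConj D.t x} := Fintype.ofFinite _
  let I := (Finset.univ : Finset {x : G // IsConj D.t x})
  let f : {x : G // IsConj D.t x} → G ⧸ H := fun x => QuotientGroup.mk x.1
  let one : G ⧸ H := QuotientGroup.mk 1
  have hsqI : ∀ x : {x : G // IsConj D.t x}, (x : G) * x = 1 := by
    rintro ⟨x, hx⟩
    obtain ⟨g, rfl⟩ := isConj_iff.1 hx
    calc g * D.t * g⁻¹ * (g * D.t * g⁻¹) = g * (D.t * D.t) * g⁻¹ := by group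
      _ = 1 := by rw [htt]; group
  have hfib : ∀ q ≠ one, (I.filter fun x => f x = q).card ≤ 1462 := by
    intro q hq
    by_cases hne : (I.filter fun x => f x = q).Nonempty
    swap
    · rw [Finset.not_nonempty_iff_eq_empty.1 hne]; simp
    obtain ⟨i₀, hi₀⟩ := hne
    have hi₀' : f i₀ = q := (Finset.mem_filter.1 hi₀).2
    have hi₀H : (i₀ : G) ∉ H := fun h => hq (by
      rw [← hi₀']
      show (QuotientGroup.mk (i₀ : G) : G ⧸ H) = QuotientGroup.mk 1
      rw [QuotientGroup.eq, mul_one]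
      exact inv_mem h)
    have hi₀i : (i₀ : G)⁻¹ = i₀ := inv_eq_of_mul_eq_one_right (hsqI i₀)
    let E : Subgroup H := (H.comap (MulAut.conj (i₀ : G)).toMonoidHom).subgroupOf H
    let Dm : Subgroup J := E.map π
    have hodd : ¬ 2 ∣ Nat.card Dm := by
      intro h2
      obtain ⟨d, hd⟩ := exists_prime_orderOf_dvd_card' (G := Dm) 2 h2
      obtain ⟨e, heE, he⟩ := d.2
      set j : J := (d : J) with hjdef
      have hj : orderOf j = 2 := by rw [hjdef, orderOf_coe]; exact hd
      obtain ⟨k, m, hm, hkm⟩ := Nat.exists_eq_two_pow_mul_odd (n := orderOf e) (orderOf_pos e).ne'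
      set e₁ := e ^ m with he₁
      have hπ1 : π e₁ = j := by
        rw [he₁, map_pow, he]
        have hj2 : j ^ 2 = 1 := hj ▸ pow_orderOf_eq_one j
        rw [← Nat.mod_add_div m 2, Nat.odd_iff.1 hm, pow_add, pow_mul, hj2, one_pow, pow_one, mul_one]
      have he1pow : e₁ ^ 2 ^ k = 1 := by
        rw [he₁, ← pow_mul, mul_comm, ← hkm, pow_orderOf_eq_one]
      have hCe : ∀ y : G, Commute y (e₁ : G) → y ∈ H := hA e₁ (by rw [hπ1]; exact hj)
      have he' : (i₀ : G) * (e₁ : G) * (i₀ : G)⁻¹ ∈ H := (pow_mem heE m : e₁ ∈ E)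
      obtain ⟨u, hu2, hcu⟩ := hcomm2 ⟨_, he'⟩ k (Subtype.ext (by
        show ((i₀ : G) * (e₁ : G) * (i₀ : G)⁻¹) ^ 2 ^ k = 1
        rw [conj_pow, ← SubmonoidClass.coe_pow, he1pow]; simp))
      have hru := hinv u hu2
      have hcu' : Commute ((i₀ : G)⁻¹ * u * i₀) (e₁ : G) := by
        have := hcu.symm.map (MulAut.conj (i₀ : G)⁻¹).toMonoidHom
        simpa [mul_assoc] using this
      have hmem := hCe _ hcu'
      have hre := hmeet _ ((Hyp.Reach.isConj D hru).trans (isConj_iff.2 ⟨(i₀ : G)⁻¹, by group⟩)) hmem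
      exact hi₀H (inv_mem_iff.1 (D.mem_block_of hru (by rw [inv_inv]; exact hre)))
    refine le_trans ?_ (J1Cent38.odd_small hJc Dm hodd)
    rw [← Nat.card_eq_finsetCard]
    have hmemH : ∀ x : {x // x ∈ I.filter fun x => f x = q}, (i₀ : G) * x.1 ∈ H := fun x => by
      have := QuotientGroup.eq.1 (hi₀'.trans (Finset.mem_filter.1 x.2).2.symm)
      rwa [hi₀i] at this
    have hmemE : ∀ x : {x // x ∈ I.filter fun x => f x = q}, (⟨_, hmemH x⟩ : H) ∈ E := fun x => by
      show (i₀ : G) * ((i₀ : G) * x.1) * (i₀ : G)⁻¹ ∈ H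
      have h := inv_mem (hmemH x)
      rw [mul_inv_rev, inv_eq_of_mul_eq_one_right (hsqI x.1)] at h
      rwa [← mul_assoc, hsqI i₀, one_mul]
    refine Nat.card_le_card_of_injective
      (fun x => (⟨π ⟨_, hmemH x⟩, ⟨_, hmemE x, rfl⟩⟩ : Dm)) fun x y hxy => ?_
    have hxy' : π ⟨_, hmemH x⟩ = π ⟨_, hmemH y⟩ := congrArg Subtype.val hxy
    set r := (x.1 : G) * y.1 with hr
    have hrC : r ∈ centralizer (J : Set G) := by
      have h1 := hπ ⟨_, hmemH x⟩
      have h2 := hπ ⟨_, hmemH y⟩
      have h3 := mul_mem (inv_mem h1) h2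
      rw [hxy'] at h3
      convert h3 using 1
      rw [hr]
      simp only [mul_inv_rev, inv_inv]
      rw [inv_eq_of_mul_eq_one_right (hsqI x.1), hi₀i]
      calc (x.1 : G) * y.1 = (x.1 : G) * ((i₀ : G) * i₀) * y.1 := by rw [hsqI i₀, mul_one]
        _ = _ := by group
    set Y := normalizer ((zpowers r : Subgroup G) : Set G) with hYdef
    have hxinv : (x.1 : G) * r * (x.1 : G)⁻¹ = r⁻¹ := by
      rw [hr, mul_inv_rev, inv_eq_of_mul_eq_one_right (hsqI x.1),
        inv_eq_of_mul_eq_one_right (hsqI y.1), ← mul_assoc, hsqI x.1, one_mul]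
    have hxY : (x.1 : G) ∈ Y := by
      rw [hYdef, mem_normalizer_iff_map_conj_eq, MonoidHom.map_zpowers]
      show zpowers ((x.1 : G) * r * (x.1 : G)⁻¹) = _
      rw [hxinv, zpowers_inv]
    have hJY : J ≤ Y := fun j hj => centralizer_le_normalizer _ (by
      rw [InvChar.centralizer_zpowers]
      exact mem_cent_singleton.2 (hrC j hj))
    suffices hr1 : r = 1 by
      refine Subtype.ext (Subtype.ext ?_)
      rw [mul_eq_one_iff_eq_inv, inv_eq_of_mul_eq_one_right (hsqI y.1)] at hr1
      exact hr1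
    by_cases hY : Y = ⊤
    · haveI hnormal : (zpowers r).Normal := normalizer_eq_top_iff.1 hY
      have hcen : ∀ g : G, Commute g r := by
        intro g
        have hle : commutator G ≤ centralizer (zpowers r : Set G) := by
          rw [_root_.commutator_def, commutator_le]
          intro a _ b _
          rw [InvChar.centralizer_zpowers, mem_cent_singleton]
          obtain ⟨ka, hka⟩ := mem_zpowers_iff.1 (hnormal.conj_mem r (mem_zpowers r) a⁻¹)
          obtain ⟨kb, hkb⟩ := mem_zpowers_iff.1 (hnormal.conj_mem r (mem_zpowers r) b⁻¹)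
          rw [inv_inv] at hka hkb
          have hcz : ∀ (c : G) (n : ℤ), c⁻¹ * r ^ n * c = (c⁻¹ * r * c) ^ n := fun c n => by
            have := conj_zpow (i := n) (a := c⁻¹) (b := r)
            rw [inv_inv] at this
            exact this.symm
          have key : (b * a)⁻¹ * r * (b * a) = (a * b)⁻¹ * r * (a * b) := by
            calc (b * a)⁻¹ * r * (b * a) = a⁻¹ * (b⁻¹ * r * b) * a := by group
              _ = r ^ (ka * kb) := by rw [← hkb, hcz, ← hka, zpow_mul]
              _ = b⁻¹ * (a⁻¹ * r * a) * b := by rw [← hka, hcz, ← hkb, mul_comm, zpow_mul]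
              _ = (a * b)⁻¹ * r * (a * b) := by group
          rw [commutatorElement_def, Commute, SemiconjBy]
          calc a * b * a⁻¹ * b⁻¹ * r = (a * b) * ((b * a)⁻¹ * r * (b * a)) * (b * a)⁻¹ := by group
            _ = (a * b) * ((a * b)⁻¹ * r * (a * b)) * (b * a)⁻¹ := by rw [key]
            _ = r * (a * b * a⁻¹ * b⁻¹) := by group
        rw [hperf, InvChar.centralizer_zpowers] at hle
        exact mem_cent_singleton.1 (hle (mem_top g))
      have hr2 : r * r = 1 := by
        rw [(hcen x.1).eq, mul_inv_cancel_right] at hxinv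
        nth_rw 1 [hxinv]
        rw [inv_mul_cancel]
      have hy_eq : (y.1 : G) = x.1 * r := by rw [hr, ← mul_assoc, hsqI x.1, one_mul]
      have hxy_comm : Commute (y.1 : G) x.1 := by
        rw [hy_eq]; exact (Commute.refl (x.1 : G)).mul_left (hcen x.1).symm
      obtain ⟨D', hD't, hD'W, -⟩ := D.exists_at x.1.2
      have hrW : r ∈ D'.W := by
        rw [hD'W, hr]
        exact mul_mem (D.mem_Wu x.1.2 (Commute.refl _)) (D.mem_Wu y.1.2 hxy_comm)
      obtain ⟨z, hz⟩ : r ∈ D'.ι.range := by rw [D'.ι_range]; exact hrW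
      have hcz : ∀ w, z * w = w * z := fun w => D'.ι_injective (by
        rw [map_mul, map_mul, hz]; exact ((hcen (D'.ι w)).symm).eq)
      rcases center_model z (hcz _) (hcz _) (hcz _) with rfl | rfl
      · rw [← hz, map_one]
      · exfalso
        rw [D'.ι_t, hD't] at hz
        have h1 : (y.1 : G) = 1 := by rw [hy_eq, ← hz, hsqI x.1]
        obtain ⟨g, hg⟩ := isConj_iff.1 y.1.2
        rw [h1, conj_eq_one_iff] at hg
        exact ht1 hg
    · exfalso
      obtain ⟨hs, hc⟩ := IH Y hY fun b hb hb1 => (hWJ b (D.reach_E0 hb hb1)).trans hJY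
      have hle : J ≤ D.orbitClosure Y := by
        haveI := hJs
        let L : Subgroup J := (D.orbitClosure J).subgroupOf J
        haveI : L.Normal := ⟨fun z hz g => by
          have hle : D.orbitClosure J ≤ (D.orbitClosure J).comap (MulAut.conj (g : G)).toMonoidHom :=
            (closure_le _).2 fun w ⟨k, hk, e⟩ => subset_closure ⟨g * k, mul_mem g.2 hk, by
              rw [e]; show (g : G) * (k * D.t * k⁻¹) * (g : G)⁻¹ = _; group⟩
          exact hle hz⟩
        have hLt : (⟨D.t, hgen _ .refl⟩ : J) ∈ L :=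
          subset_closure ⟨1, one_mem _, by simp⟩
        rcases (inferInstance : L.Normal).eq_bot_or_eq_top with h | h
        · rw [h] at hLt; exact absurd (congrArg Subtype.val (mem_bot.1 hLt)) ht1
        · exact (subgroupOf_eq_top.1 h).trans (closure_mono fun w ⟨k, hk, e⟩ => ⟨k, hJY hk, e⟩)
      have heq := eq_of_le_of_card_ge hle (by rw [hc, hJc])
      have h1 : (x.1 : G) * D.t * (x.1 : G)⁻¹ ∈ J := by
        rw [heq]; exact subset_closure ⟨_, hxY, rfl⟩
      have hre := hmeet _ (isConj_iff.2 ⟨_, rfl⟩) (hJH h1)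
      have hxH : (x.1 : G) ∈ H := hre
      refine hi₀H ?_
      have h2 := hmemH x
      exact (mul_mem_cancel_right hxH).1 h2
  have hin : (I.filter fun x => f x = one).card * 120 = Nat.card J := by
    let t' : J := ⟨D.t, hgen _ .refl⟩
    have ht' : orderOf t' = 2 := by rw [orderOf_mk]; exact ht2
    rw [← InvChar68.card_isConj_mul_card_centralizer t', J1Order38.cent_inv_card hJc ht',
      ← Nat.card_eq_finsetCard]
    congr 1
    have hxH : ∀ x : {x // x ∈ I.filter fun x => f x = one}, (x.1 : G) ∈ H := fun x => by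
      have h := QuotientGroup.eq.1 (Finset.mem_filter.1 x.2).2
      rw [mul_one] at h
      exact inv_mem_iff.1 h
    have hxJ : ∀ x : {x // x ∈ I.filter fun x => f x = one}, (x.1 : G) ∈ J := fun x =>
      hgen _ (hmeet _ x.1.2 (hxH x))
    refine Nat.card_congr
      { toFun := fun x => ⟨⟨x.1.1, hxJ x⟩, ?_⟩
        invFun := fun y => ⟨⟨(y.1 : G), ?_⟩, ?_⟩
        left_inv := fun x => rfl
        right_inv := fun y => rfl }
    · obtain ⟨g, hg⟩ := J1Order38.conj_involutions hJc ht' (b := ⟨x.1.1, hxJ x⟩) (by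
        rw [orderOf_mk]; exact orderOf_two (hsqI x.1) (fun h => by
          obtain ⟨g, hg⟩ := isConj_iff.1 x.1.2
          rw [h, conj_eq_one_iff] at hg
          exact ht1 hg))
      exact isConj_iff.2 ⟨g, hg⟩
    · obtain ⟨g, hg⟩ := isConj_iff.1 y.2
      exact isConj_iff.2 ⟨(g : G), congrArg Subtype.val hg⟩
    · refine Finset.mem_filter.2 ⟨Finset.mem_univ _, ?_⟩
      show (QuotientGroup.mk (y.1 : G) : G ⧸ H) = QuotientGroup.mk 1
      rw [QuotientGroup.eq, mul_one]
      exact inv_mem (hJH y.1.2)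
  have hin' : (I.filter fun x => f x = one).card = 1463 := by rw [hJc] at hin; omega
  have htot : I.card = 1463 * Fintype.card (G ⧸ H) := by
    have hcardI : Nat.card {x : G // IsConj D.t x} * Nat.card (centralizer ({D.t} : Set G)) = Nat.card G :=
      InvChar68.card_isConj_mul_card_centralizer D.t
    have hH1 := InvChar68.card_isConj_mul_card_centralizer (G := H) (⟨D.t, htH⟩ : H)
    have hce : Nat.card (centralizer ({(⟨D.t, htH⟩ : H)} : Set H)) = Nat.card (centralizer ({D.t} : Set G)) :=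
      Nat.card_congr
        { toFun := fun c => ⟨(c.1 : G), mem_cent_singleton.2 ((mem_cent_singleton.1 c.2).map H.subtype)⟩
          invFun := fun c => ⟨⟨c.1, D.cent_le_block .refl (mem_cent_singleton.1 c.2)⟩,
            mem_cent_singleton.2 (Subtype.ext (mem_cent_singleton.1 c.2).eq)⟩
          left_inv := fun c => rfl
          right_inv := fun c => rfl }
    have hclass : Nat.card {y : H // IsConj (⟨D.t, htH⟩ : H) y} = 1463 := by
      rw [← hin', ← Nat.card_eq_finsetCard]
      refine Nat.card_congr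
        { toFun := fun y => ⟨⟨(y.1 : G), H.subtype.map_isConj y.2⟩, Finset.mem_filter.2 ⟨Finset.mem_univ _, ?_⟩⟩
          invFun := fun x => ⟨⟨x.1.1, ?_⟩, ?_⟩
          left_inv := fun y => rfl
          right_inv := fun x => rfl }
      · show (QuotientGroup.mk (y.1 : G) : G ⧸ H) = QuotientGroup.mk 1
        rw [QuotientGroup.eq, mul_one]
        exact inv_mem y.1.2
      · have h := QuotientGroup.eq.1 (Finset.mem_filter.1 x.2).2
        rw [mul_one] at h
        exact inv_mem_iff.1 h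
      · have hxH : (x.1 : G) ∈ H := by
          have h := QuotientGroup.eq.1 (Finset.mem_filter.1 x.2).2
          rw [mul_one] at h
          exact inv_mem_iff.1 h
        have hre := hmeet _ x.1.2 hxH
        obtain ⟨g, hg⟩ := isConj_iff.1 x.1.2
        exact isConj_iff.2 ⟨⟨g, by show D.Reach D.t _; rw [hg]; exact hre⟩, Subtype.ext hg⟩
    rw [hce, hclass] at hH1
    have hidx := H.card_eq_card_quotient_mul_card_subgroup
    rw [← hH1, Nat.card_eq_fintype_card (α := G ⧸ H), ← hcardI, Nat.card_eq_fintype_card] at hidx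
    show Fintype.card {x : G // IsConj D.t x} = _
    have hpos : 0 < Nat.card (centralizer ({D.t} : Set G)) := Nat.card_pos
    refine mul_right_cancel₀ hpos.ne' (hidx.trans ?_)
    ring
  have hsum := Finset.card_eq_sum_card_fiberwise (f := f) (s := I) (t := Finset.univ)
    (fun x _ => Finset.mem_univ _)
  rw [← Finset.add_sum_erase _ _ (Finset.mem_univ one), hin'] at hsum
  have hle := Finset.sum_le_card_nsmul ((Finset.univ : Finset (G ⧸ H)).erase one)
    (fun q => (I.filter fun x => f x = q).card) 1462 fun q hq => hfib q (Finset.mem_erase.1 hq).1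
  rw [smul_eq_mul, Finset.card_erase_of_mem (Finset.mem_univ _), Finset.card_univ] at hle
  have hn : 2 ≤ Fintype.card (G ⧸ H) := by
    rw [← Nat.card_eq_fintype_card]
    exact Subgroup.one_lt_index_of_ne_top (H := H) hH
  omega

end Cfsg.Agent.WeakJ1
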