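import Cfsg.Agent.WeakJ1.Model

/-!
Elements of odd order of the model have a conjugate with which their product is an involution.
-/

set_option autoImplicit false

namespace Cfsg.Agent.WeakJ1

open Cfsg.Agent.J1Order38.Model

set_option synthInstance.maxSize 4000

set_option maxRecDepth 100000 in
theorem odd_escape : ∀ z : HM, z ^ 15 = 1 → z ≠ 1 →
    ∃ g : HM, ∃ k : Fin 5, (z ^ k.val * (g * z * g⁻¹)) * (z ^ k.val * (g * z * g⁻¹)) = 1 ∧
      z ^ k.val * (g * z * g⁻¹) ≠ 1 := by
  decide +kernel

set_option maxRecDepth 100000 in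
theorem exponent_model : ∀ z : HM, z ^ 30 = 1 := by decide +kernel

end Cfsg.Agent.WeakJ1
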