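import Cfsg.Agent.WeakJ1.Block
import Cfsg.Agent.WeakJ1.ModelOdd
import Cfsg.Agent.S0448
import Cfsg.Agent.Fusion92.FocalControl
import Cfsg.Agent.KnownSimple.Multiplier.Sylow

/-!
When the commuting graph is connected, the odd cores are central, the Sylow 2-subgroup is the
elementary subgroup of order eight and the group is simple of order 175560.
-/

set_option autoImplicit false
set_option linter.style.haveILetI false

namespace Cfsg.Agent.WeakJ1

open Cfsg.Agent.J1Order38.Model Subgroup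
open scoped commutatorElement

universe u

theorem norm_of_subset {G : Type*} [Group G] [Finite G] {E : Subgroup G} {g : G}
    (h : ∀ x ∈ E, g * x * g⁻¹ ∈ E) : g ∈ normalizer (E : Set G) := by
  rw [mem_normalizer_iff_map_conj_eq]
  refine eq_of_le_of_card_ge ?_ (by rw [card_map_of_injective (MulAut.conj g).injective])
  rintro _ ⟨x, hx, rfl⟩
  exact h x hx

theorem Hyp.simple_of_connected {G : Type u} [Group G] [Finite G] (D : Hyp G)
    (hperf : commutator G = ⊤) (hnc : normalClosure ({D.t} : Set G) = ⊤)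
    (hconn : ∀ u, IsConj D.t u → D.Reach D.t u) :
    IsSimpleGroup G ∧ Nat.card G = 175560 := by
  classical
  haveI : Fact (Nat.Prime 2) := ⟨Nat.prime_two⟩
  have hE := D.isE_E0
  have ht2 := D.ord
  have ht1 : D.t ≠ 1 := fun h => by rw [h, orderOf_one] at ht2; omega
  have htt : D.t * D.t = 1 := by rw [← pow_two, ← ht2, pow_orderOf_eq_one]
  set C := centralizer (D.E0 : Set G) with hCdef
  -- elements commuting with every conjugate are central
  have hcenter : ∀ c : G, (∀ u, IsConj D.t u → Commute c u) → c ∈ center G := by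
    intro c hc
    have hle : normalClosure ({D.t} : Set G) ≤ centralizer ({c} : Set G) := by
      refine (closure_le _).2 fun x hx => ?_
      obtain ⟨_, rfl, hax⟩ := Group.mem_conjugatesOfSet_iff.1 hx
      exact mem_cent_singleton.2 (hc x hax).symm
    rw [hnc] at hle
    exact mem_center_iff.2 fun g => (mem_cent_singleton.1 (hle (mem_top g))).eq
  have hoddC : ∀ c ∈ C, Odd (orderOf c) → c ∈ center G := by
    intro c hc hodd
    have key : ∀ v, D.Reach D.t v → c ∈ centralizer (D.Wu v : Set G) := by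
      intro v hv
      induction hv with
      | refl => exact D.odd_centE hE D.t_mem_E0 ht1 hc hodd
      | @tail a b hta hab ih =>
        obtain ⟨ha, hb, hcomm⟩ := hab
        obtain ⟨D', hD't, hD'W, hiff⟩ := D.exists_at ha
        have hbW : b ∈ D'.ι.range := by
          rw [D'.ι_range, hD'W]; exact D.mem_Wu hb hcomm.symm
        obtain ⟨z, rfl⟩ := hbW
        have hb1 : D'.ι z ≠ 1 := fun h => by
          obtain ⟨g, hg⟩ := isConj_iff.1 hb
          rw [h, conj_eq_one_iff] at hg
          exact ht1 hg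
        have hzz : z * z = 1 := D'.ι_injective (by
          rw [map_mul, map_one]
          obtain ⟨g, hg⟩ := isConj_iff.1 hb
          rw [← hg]
          calc g * D.t * g⁻¹ * (g * D.t * g⁻¹) = g * (D.t * D.t) * g⁻¹ := by group
            _ = 1 := by rw [htt]; group)
        obtain ⟨w, v', hwv⟩ := invol_conj_sv z hzz
        let E1 : Subgroup G := (eModel.map (MulAut.conj w⁻¹).toMonoidHom).map D'.ι
        have hE1W : ∀ x ∈ E1, x ∈ D.Wu a := by
          rintro _ ⟨y, -, rfl⟩
          rw [← hD'W, ← D'.ι_range]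
          exact ⟨y, rfl⟩
        have hE1 : D.IsE E1 := by
          constructor
          · rw [card_map_of_injective D'.ι_injective,
              card_map_of_injective (MulAut.conj w⁻¹).injective, card_eModel]
          · rintro _ ⟨_, ⟨_, ⟨p, rfl⟩, rfl⟩, rfl⟩ _ ⟨_, ⟨_, ⟨q, rfl⟩, rfl⟩, rfl⟩
            exact (((show Commute (sv p) (sv q) from sv_comm p q).map
              (MulAut.conj w⁻¹).toMonoidHom)).map D'.ι
          · intro x hx hx1
            refine D.conj_of_mem_Wu ha (hE1W x hx) (orderOf_two ?_ hx1)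
            obtain ⟨_, ⟨_, ⟨p, rfl⟩, rfl⟩, rfl⟩ := hx
            rw [← map_mul, ← map_mul, sv_sq, map_one, map_one]
        have hbE1 : D'.ι z ∈ E1 := ⟨z, ⟨sv v', ⟨v', rfl⟩, by
          show w⁻¹ * sv v' * w⁻¹⁻¹ = z
          rw [← hwv]; group⟩, rfl⟩
        exact D.odd_centE hE1 hbE1 hb1 (fun x hx => ih x (hE1W x hx)) hodd
    refine hcenter c fun u hu => ?_
    exact ((key u (hconn u hu)) u (D.mem_Wu hu (Commute.refl u))).symm
  -- odd normal subgroups are central
  have hoddN : ∀ N : Subgroup G, N.Normal → Odd (Nat.card N) → N ≤ center G := by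
    intro N hN hNodd
    have htc : ∀ z ∈ N, Commute z D.t → z ∈ center G := by
      intro z hz hc
      have hzodd : Odd (orderOf z) := Odd.of_dvd_nat hNodd (by
        have := orderOf_dvd_natCard (⟨z, hz⟩ : N)
        rwa [orderOf_mk] at this)
      obtain ⟨w, hw, d, hd, rfl⟩ := D.cent_split (IsConj.refl _) hc
      have hw' : w ∈ D.ι.range := by rw [D.ι_range, D.W_eq]; exact hw
      obtain ⟨q, rfl⟩ := hw'
      have hdq : ∀ y : HM, D.ι y * d = d * D.ι y := fun y => hd _ (by
        rw [← D.W_eq, ← D.ι_range]; exact ⟨y, rfl⟩)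
      set n := orderOf (D.ι q * d) with hn
      have hcom : Commute (D.ι q * d) (D.ι q) := by
        show D.ι q * d * D.ι q = D.ι q * (D.ι q * d)
        rw [mul_assoc, ← hdq q]
      have hdn : d ^ n = (D.ι q ^ n)⁻¹ := by
        apply eq_inv_of_mul_eq_one_right
        rw [← (show Commute (D.ι q) d from hdq q).mul_pow, hn, pow_orderOf_eq_one]
      have hqn : ∀ y, y * q ^ n = q ^ n * y := fun y => D.ι_injective (by
        have h1 : Commute (D.ι y) (d ^ n) := (show Commute (D.ι y) d from hdq y).pow_right n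
        rw [hdn] at h1
        rw [map_mul, map_mul, map_pow]
        exact (Commute.inv_right_iff.1 h1).eq)
      have hqn2 : q ^ n = 1 ∨ q ^ n = g0 3 :=
        center_model _ (hqn _).symm (hqn _).symm (hqn _).symm
      have hq15 : (q ^ 2) ^ 15 = 1 := by rw [← pow_mul]; exact exponent_model q
      by_cases hq2 : q ^ 2 = 1
      · have hq1 : D.ι q ∈ centralizer (D.Wu D.t : Set G) := by
          have hqq : q ^ n = q := by
            rw [← Nat.mod_add_div n 2, Nat.odd_iff.1 hzodd, pow_add, pow_mul, hq2, one_pow,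
              pow_one, mul_one]
          intro y hy
          have hy' : y ∈ D.ι.range := by rw [D.ι_range, D.W_eq]; exact hy
          obtain ⟨y, rfl⟩ := hy'
          rw [← map_mul, ← map_mul, ← hqq, hqn]
        exact hoddC _ (D.cent_Wu_le hE D.t_mem_E0 (mul_mem hq1 hd)) hzodd
      · exfalso
        -- the square lies in an odd normal part of the model
        have hstep : ∀ g : HM, D.ι (g * q * g⁻¹) * d ∈ N := by
          intro g
          have h := hN.conj_mem _ hz (D.ι g)
          rw [show D.ι g * (D.ι q * d) * (D.ι g)⁻¹ = D.ι (g * q * g⁻¹) * d by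
            rw [map_mul, map_mul, map_inv]
            calc D.ι g * (D.ι q * d) * (D.ι g)⁻¹ = D.ι g * D.ι q * (d * (D.ι g)⁻¹) := by group
              _ = D.ι g * D.ι q * ((D.ι g)⁻¹ * d) := by rw [← map_inv, hdq]
              _ = _ := by group] at h
          exact h
        have hdiff : ∀ g : HM, D.ι ((g * q * g⁻¹) * q⁻¹) ∈ N := by
          intro g
          have h := mul_mem (hstep g) (inv_mem hz)
          rw [mul_inv_rev, mul_assoc, ← mul_assoc d, mul_inv_cancel, one_mul, ← map_inv,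
            ← map_mul] at h
          exact h
        have hone : ∀ y : HM, D.ι y ∈ N → y * y = 1 → y = 1 := by
          intro y hy hy2
          by_contra h1
          have h2 : orderOf (D.ι y) = 2 := by
            rw [orderOf_injective _ D.ι_injective]; exact orderOf_two hy2 h1
          have h3 := orderOf_dvd_natCard (⟨D.ι y, hy⟩ : N)
          rw [orderOf_mk, h2] at h3
          exact Nat.not_even_iff_odd.2 hNodd (even_iff_two_dvd.2 h3)
        have hfix : ∀ g, g * q * g⁻¹ = q := by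
          intro g
          by_contra hne
          set y := (g * q * g⁻¹) * q⁻¹ with hy
          have hy1 : y ≠ 1 := fun h => hne (mul_inv_eq_one.1 h)
          have hyN := hdiff g
          have hy15 : y ^ 15 = 1 := by
            have h2 : (y ^ 15) * (y ^ 15) = 1 := by rw [← pow_add]; exact exponent_model y
            exact hone _ (by rw [map_pow]; exact pow_mem hyN 15) h2
          obtain ⟨u, k, hu2, hu1⟩ := odd_escape y hy15 hy1
          refine hu1 (hone _ ?_ hu2)
          rw [map_mul]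
          refine mul_mem (by rw [map_pow]; exact pow_mem hyN _) ?_
          rw [map_mul, map_mul, map_inv]
          exact hN.conj_mem _ hyN _
        rcases center_model q (mul_inv_eq_iff_eq_mul.1 (hfix _)).symm (mul_inv_eq_iff_eq_mul.1 (hfix _)).symm
          (mul_inv_eq_iff_eq_mul.1 (hfix _)).symm with rfl | rfl
        · exact hq2 (one_pow 2)
        · exact hq2 (by rw [pow_two, ← sv_one, sv_sq])
    haveI : IsMulCommutative D.E0 := ⟨⟨fun x y => Subtype.ext (hE.comm x x.2 y y.2).eq⟩⟩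
    have hncyc : ¬ IsCyclic D.E0 := by
      intro hcy
      obtain ⟨g, hg⟩ := IsCyclic.exists_generator (α := D.E0)
      have h2 : orderOf g ≤ 2 := orderOf_le_of_pow_eq_one two_pos (Subtype.ext (by
        rw [pow_two]; exact hE.sq g.2))
      have h8 : orderOf g = 8 := by rw [orderOf_eq_card_of_forall_mem_zpowers hg, hE.card]
      omega
    intro z hz
    rw [← S0058.result D.E0 N hncyc (fun x _ => by rw [normalizer_eq_top_iff.2 hN]; exact mem_top x)
      (by rw [hE.card]; exact Nat.Coprime.pow_left 3 (Nat.coprime_two_left.2 hNodd))] at hz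
    refine (iSup₂_le fun b hb => ?_ : _ ≤ center G) hz
    rintro w ⟨hwN, hw⟩
    obtain ⟨g, hg⟩ := isConj_iff.1 (hE.conj b hb.1 hb.2)
    have hwb : Commute w b := mem_cent_singleton.1 hw
    rw [← hg] at hwb
    have h1 := htc (g⁻¹ * w * g) (by simpa using hN.conj_mem w hwN g⁻¹) (by
      have := hwb.map (MulAut.conj g⁻¹).toMonoidHom
      simpa [mul_assoc] using this)
    have h2 := (Subgroup.normal_of_characteristic (center G)).conj_mem _ h1 g
    rwa [show g * (g⁻¹ * w * g) * g⁻¹ = w by group] at h2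
  -- a Sylow subgroup
  have hE0C : D.E0 ≤ C := fun x hx y hy => hE.comm y hy x hx
  have hE0p : IsPGroup 2 D.E0 := IsPGroup.of_card (n := 3) hE.card
  obtain ⟨S0, hS0⟩ := (hE0p.comap_subtype (K := C)).exists_le_sylow
  set S : Subgroup G := (S0 : Subgroup C).map C.subtype with hSdef
  have hSC : S ≤ C := map_subtype_le _
  have hE0S : D.E0 ≤ S := fun x hx => ⟨⟨x, hE0C hx⟩, hS0 hx, rfl⟩
  have hSp : IsPGroup 2 S := S0.isPGroup'.map _
  have hweak : ∀ g, (∀ x ∈ D.E0, g * x * g⁻¹ ∈ S) → ∀ x ∈ D.E0, g * x * g⁻¹ ∈ D.E0 := by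
    intro g hg x hx
    by_cases hx1 : x = 1
    · rw [hx1, mul_one, mul_inv_cancel]; exact one_mem _
    have hc := hSC (hg x hx)
    have hW : g * x * g⁻¹ ∈ D.W :=
      D.closed _ ((hE.conj x hx hx1).trans (isConj_iff.2 ⟨g, rfl⟩)) ((hc D.t D.t_mem_E0).symm)
    rw [← D.ι_range] at hW
    obtain ⟨z, hz⟩ := hW
    obtain ⟨v, rfl⟩ := centralizer_eModel (z := z) fun v => D.ι_injective (by
      rw [map_mul, map_mul, hz]
      exact (hc _ ⟨sv v, ⟨v, rfl⟩, rfl⟩).symm)
    rw [← hz]
    exact ⟨sv v, ⟨v, rfl⟩, rfl⟩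
  obtain ⟨T, hT⟩ := hSp.exists_le_sylow
  have hST : S = (T : Subgroup G) := by
    by_contra hne
    have hlt : S < (T : Subgroup G) := lt_of_le_of_ne hT hne
    have htop : S.subgroupOf (T : Subgroup G) ≠ ⊤ := fun h => hne (le_antisymm hT (subgroupOf_eq_top.1 h))
    obtain ⟨n, hn, hnS⟩ := SetLike.exists_of_lt (PGroup.lt_normalizer T.isPGroup' htop)
    have hnS' : ∀ x ∈ S, (n : G) * x * (n : G)⁻¹ ∈ S := fun x hx =>
      (mem_normalizer_iff.1 hn ⟨x, hT hx⟩).1 hx
    have hnE := hweak n fun x hx => hnS' x (hE0S hx)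
    obtain ⟨j, hj⟩ := T.isPGroup' n
    have hnC : (n : G) ∈ C := D.two_pow_centralizes hE hnE (j := j) (congrArg Subtype.val hj)
    have hp : IsPGroup 2 (((T : Subgroup G) ⊓ C).subgroupOf C) :=
      (T.isPGroup'.to_le inf_le_left).comap_subtype
    have hle : (S0 : Subgroup C) ≤ ((T : Subgroup G) ⊓ C).subgroupOf C := fun x hx =>
      ⟨hT ⟨x, hx, rfl⟩, x.2⟩
    have heq := S0.is_maximal' hp hle
    have : (⟨(n : G), hnC⟩ : C) ∈ (S0 : Subgroup C) := heq.le ⟨n.2, hnC⟩
    exact hnS ⟨_, this, rfl⟩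
  -- fusion is controlled by the normaliser of the elementary subgroup
  have hfus : ∀ x ∈ S, ∀ g : G, g * x * g⁻¹ ∈ S →
      ∃ n, (∀ y ∈ D.E0, n * y * n⁻¹ ∈ D.E0) ∧ n * x * n⁻¹ = g * x * g⁻¹ := by
    intro x hx g hy
    set y := g * x * g⁻¹ with hydef
    set Cy := centralizer ({y} : Set G) with hCy
    set E1 := D.E0.map (MulAut.conj g).toMonoidHom with hE1
    have h0 : D.E0 ≤ Cy := fun e he => mem_cent_singleton.2 (hSC hy e he)
    have h1 : E1 ≤ Cy := by
      rintro _ ⟨e, he, rfl⟩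
      exact mem_cent_singleton.2 ((show Commute e x from hSC hx e he).map (MulAut.conj g).toMonoidHom)
    obtain ⟨T1, hT1⟩ := (hE0p.comap_subtype (K := Cy)).exists_le_sylow
    obtain ⟨T2, hT2⟩ := ((hE0p.map (MulAut.conj g).toMonoidHom).comap_subtype (K := Cy)).exists_le_sylow
    obtain ⟨c, hc⟩ := MulAction.exists_smul_eq Cy T2 T1
    obtain ⟨U, hU⟩ := (T1.isPGroup'.map Cy.subtype).exists_le_sylow
    obtain ⟨k, hk⟩ := MulAction.exists_smul_eq G T U
    have hback : ∀ z ∈ (U : Subgroup G), k⁻¹ * z * k ∈ S := by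
      intro z hz
      rw [← hk] at hz
      obtain ⟨s, hs, rfl⟩ := hz
      rw [hST]
      show k⁻¹ * (k * s * k⁻¹) * k ∈ _
      rwa [show k⁻¹ * (k * s * k⁻¹) * k = s by group]
    have hk1 := hweak k⁻¹ fun e he => by
      rw [inv_inv]
      exact hback e (hU ⟨⟨e, h0 he⟩, hT1 he, rfl⟩)
    have hk2 := hweak (k⁻¹ * (c : G) * g) fun e he => by
      have hm : (⟨g * e * g⁻¹, h1 ⟨e, he, rfl⟩⟩ : Cy) ∈ (T2 : Subgroup Cy) := hT2 ⟨e, he, rfl⟩
      have hm' : c * (⟨g * e * g⁻¹, h1 ⟨e, he, rfl⟩⟩ : Cy) * c⁻¹ ∈ (T1 : Subgroup Cy) := by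
        rw [← hc]; exact ⟨_, hm, rfl⟩
      have := hback _ (hU ⟨_, hm', rfl⟩)
      rw [show k⁻¹ * (c : G) * g * e * (k⁻¹ * (c : G) * g)⁻¹
        = k⁻¹ * ((c : G) * (g * e * g⁻¹) * (c : G)⁻¹) * k by group]
      exact this
    have hn : k * (k⁻¹ * (c : G) * g) ∈ normalizer (D.E0 : Set G) :=
      mul_mem (inv_mem_iff.1 (norm_of_subset hk1)) (norm_of_subset hk2)
    rw [show k * (k⁻¹ * (c : G) * g) = (c : G) * g by group] at hn
    refine ⟨(c : G) * g, fun e he => (mem_normalizer_iff.1 hn e).1 he, ?_⟩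
    have hcy : Commute (c : G) y := mem_cent_singleton.1 c.2
    rw [show (c : G) * g * x * ((c : G) * g)⁻¹ = (c : G) * y * (c : G)⁻¹ by rw [hydef]; group,
      hcy.eq, mul_inv_cancel_right]
  -- the centraliser is the Sylow subgroup times a central group
  have hCdec : ∀ c ∈ C, ∃ s ∈ S, ∃ z ∈ center G, c = s * z := by
    let Z := (center G).subgroupOf C
    have htop : (S0 : Subgroup C) ⊔ Z = ⊤ := by
      rw [← index_eq_one]
      by_contra hne
      obtain ⟨q, hq, hqd⟩ := Nat.exists_prime_and_dvd hne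
      haveI := Fact.mk hq
      by_cases hq2 : q = 2
      · subst hq2
        exact S0.not_dvd_index (hqd.trans (index_dvd_of_le le_sup_left))
      · have hdiv : q ∣ Z.index := hqd.trans (index_dvd_of_le le_sup_right)
        obtain ⟨Q⟩ := (inferInstance : Nonempty (Sylow q C))
        have hQZ : (Q : Subgroup C) ≤ Z := by
          intro x hx
          obtain ⟨m, hm⟩ := Q.isPGroup' ⟨x, hx⟩
          have hxo : Odd (orderOf x) := Odd.of_dvd_nat ((hq.odd_of_ne_two hq2).pow (n := m))
            (orderOf_dvd_of_pow_eq_one (congrArg Subtype.val hm))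
          exact hoddC (x : G) x.2 (by rwa [orderOf_coe])
        exact Q.not_dvd_index (hdiv.trans (index_dvd_of_le hQZ))
    intro c hc
    have hm : (⟨c, hc⟩ : C) ∈ (S0 : Subgroup C) ⊔ Z := htop ▸ mem_top _
    obtain ⟨s, hs, z, hz, hsz⟩ := mem_sup_of_normal_right.1 hm
    exact ⟨s, ⟨s, hs, rfl⟩, z, hz, (congrArg Subtype.val hsz).symm⟩
  have hCC : ⁅C, C⁆ ≤ ⁅S, S⁆ := by
    rw [commutator_le]
    intro a ha b hb
    obtain ⟨s, hs, z, hz, rfl⟩ := hCdec a ha
    obtain ⟨r, hr, y, hy, rfl⟩ := hCdec b hb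
    have e : ⁅s * z, r * y⁆ = ⁅s, r⁆ := by
      rw [commutatorElement_def, commutatorElement_def]
      have hzc : Commute z (r * y) := (mem_center_iff.1 hz _).symm
      have hys : Commute y s⁻¹ := (mem_center_iff.1 hy _).symm
      calc s * z * (r * y) * (s * z)⁻¹ * (r * y)⁻¹ = s * (z * (r * y)) * z⁻¹ * s⁻¹ * (r * y)⁻¹ := by group
        _ = s * r * (y * s⁻¹) * y⁻¹ * r⁻¹ := by rw [hzc.eq]; group
        _ = s * r * s⁻¹ * r⁻¹ := by rw [hys.eq]; group
    rw [e]
    exact commutator_mem_commutator hs hr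
  -- the normaliser acts trivially modulo the elementary subgroup
  set Q := D.E0 ⊔ ⁅C, C⁆ with hQdef
  have hQn : ∀ n ∈ normalizer (D.E0 : Set G), ∀ q ∈ Q, n * q * n⁻¹ ∈ Q := by
    intro n hn q hq
    have hCn : C.map (MulAut.conj n).toMonoidHom ≤ C := by
      rintro _ ⟨c, hc, rfl⟩ y hy
      have hy' : n⁻¹ * y * n ∈ D.E0 := by
        have := (mem_normalizer_iff.1 (inv_mem hn) y).1 hy
        rwa [inv_inv] at this
      show y * (n * c * n⁻¹) = n * c * n⁻¹ * y
      calc y * (n * c * n⁻¹) = n * ((n⁻¹ * y * n) * c) * n⁻¹ := by group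
        _ = _ := by rw [hc _ hy']; group
    have hle : Q.map (MulAut.conj n).toMonoidHom ≤ Q := by
      rw [hQdef, Subgroup.map_sup, map_commutator]
      refine sup_le_sup ?_ (commutator_mono hCn hCn)
      rintro _ ⟨e, he, rfl⟩
      exact (mem_normalizer_iff.1 hn e).1 he
    exact hle ⟨q, hq, rfl⟩
  let A : Subgroup G :=
    { carrier := {n | n ∈ normalizer (D.E0 : Set G) ∧ ∀ c ∈ C, c⁻¹ * (n * c * n⁻¹) ∈ Q}
      one_mem' := ⟨one_mem _, fun c _ => by simp⟩
      mul_mem' := fun {n m} ⟨hn, hn'⟩ ⟨hm, hm'⟩ => ⟨mul_mem hn hm, fun c hc => by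
        have h1 := mul_mem (hn' c hc) (hQn n hn _ (hm' c hc))
        rwa [show c⁻¹ * (n * c * n⁻¹) * (n * (c⁻¹ * (m * c * m⁻¹)) * n⁻¹)
          = c⁻¹ * (n * m * c * (n * m)⁻¹) by group] at h1⟩
      inv_mem' := fun {n} ⟨hn, hn'⟩ => ⟨inv_mem hn, fun c hc => by
        have hc' : n⁻¹ * c * n ∈ C := fun y hy => by
          have hy' := (mem_normalizer_iff.1 hn y).1 hy
          calc y * (n⁻¹ * c * n) = n⁻¹ * ((n * y * n⁻¹) * c) * n := by group
            _ = _ := by rw [hc _ hy']; group
        have h1 := inv_mem (hn' _ hc')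
        rwa [show ((n⁻¹ * c * n)⁻¹ * (n * (n⁻¹ * c * n) * n⁻¹))⁻¹
          = c⁻¹ * (n⁻¹ * c * n⁻¹⁻¹) by group] at h1⟩ }
  have hHA : ∀ a ∈ D.E0, a ≠ 1 → ∀ h, D.IsH D.E0 a h → h ∈ A := fun a ha ha1 h hh =>
    ⟨norm_of_subset hh.2.1, fun c hc => mem_sup_left (D.isH_comm hE ha ha1 hh hc)⟩
  have hnA : ∀ n, (∀ x ∈ D.E0, n * x * n⁻¹ ∈ D.E0) → n ∈ A := by
    intro n hn
    obtain ⟨k, hk, hkt⟩ := D.fused hE A (fun a ha ha1 => by
      obtain ⟨h, hh⟩ := D.exists_isH hE ha ha1
      exact ⟨h, hHA a ha ha1 h hh, hh⟩) D.t_mem_E0 ht1 (hn _ D.t_mem_E0)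
      (fun h => ht1 (conj_eq_one_iff.1 h))
    have hm : k⁻¹ * n ∈ normalizer (D.E0 : Set G) := mul_mem (inv_mem hk.1) (norm_of_subset hn)
    obtain ⟨h, hh, j, c, hc, hkn⟩ := D.stab_decomp hE D.t_mem_E0 ht1
      (fun x hx => (mem_normalizer_iff.1 hm x).1 hx) (by
        calc k⁻¹ * n * D.t * (k⁻¹ * n)⁻¹ = k⁻¹ * (n * D.t * n⁻¹) * k := by group
          _ = D.t := by rw [← hkt]; group)
    have hcA : c ∈ A := ⟨norm_of_subset fun x hx => by rw [← hc x hx, mul_inv_cancel_right]; exact hx,
      fun y hy => mem_sup_right (by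
        have := commutator_mem_commutator (inv_mem hy) hc
        rw [commutatorElement_def, inv_inv] at this
        simpa [mul_assoc] using this)⟩
    rw [show n = k * (k⁻¹ * n) by group, hkn]
    exact mul_mem hk (mul_mem (pow_mem (hHA _ D.t_mem_E0 ht1 h hh) j) hcA)
  -- the Sylow subgroup is elementary of order eight
  have hSE : S = D.E0 := by
    have hSQ : S ≤ Q := by
      have h := Fusion92.sylow_inf_commutator_le T (H := ⊤) (M := Q) le_top (fun x hx g _ hgx => by
        rw [← hST] at hx hgx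
        obtain ⟨n, hn, hne⟩ := hfus x hx g hgx
        rw [← hne]
        exact (hnA n hn).2 x (hSC hx))
      rw [← _root_.commutator_def, hperf, inf_top_eq, ← hST] at h
      exact h
    refine le_antisymm ?_ hE0S
    have hSQ' : S ≤ D.E0 ⊔ ⁅S, S⁆ := hSQ.trans (sup_le_sup_left hCC _)
    haveI hnor : (D.E0.subgroupOf S).Normal := ⟨fun x hx g => by
      show (g : G) * (x : G) * (g : G)⁻¹ ∈ D.E0
      rw [← (hSC g.2 (x : G) hx), mul_inv_cancel_right]
      exact hx⟩
    by_contra hne
    haveI : Nontrivial (S ⧸ D.E0.subgroupOf S) :=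
      QuotientGroup.nontrivial_iff.2 fun h => hne (subgroupOf_eq_top.1 h)
    haveI : Group.IsNilpotent (S ⧸ D.E0.subgroupOf S) := (hSp.to_quotient _).isNilpotent
    have hlt := Group.IsSolvable.commutator_lt_top_of_nontrivial (S ⧸ D.E0.subgroupOf S)
    refine hlt.ne (eq_top_iff.2 ?_)
    rw [_root_.commutator_def, ← map_top_of_surjective (QuotientGroup.mk' (D.E0.subgroupOf S))
      (QuotientGroup.mk'_surjective _), ← map_commutator]
    intro q hq
    obtain ⟨s, -, rfl⟩ := hq
    have hs : (s : G) ∈ (D.E0.subgroupOf S ⊔ ⁅(⊤ : Subgroup S), ⊤⁆).map S.subtype := by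
      rw [Subgroup.map_sup, map_commutator, ← MonoidHom.range_eq_map, range_subtype, subgroupOf_map_subtype,
        inf_of_le_left hE0S]
      exact hSQ' s.2
    obtain ⟨s', hs', hss⟩ := hs
    obtain rfl : s' = s := Subtype.ext hss
    obtain ⟨e, he, c, hc, rfl⟩ := mem_sup_of_normal_right.1 hs'
    refine ⟨c, hc, ?_⟩
    rw [map_mul, show QuotientGroup.mk' (D.E0.subgroupOf S) e = 1 from (QuotientGroup.eq_one_iff e).2 he, one_mul]
  -- all involutions are conjugate
  have hinvol : ∀ x : G, orderOf x = 2 → IsConj D.t x := by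
    intro x hx
    have hp : IsPGroup 2 (zpowers x) := IsPGroup.of_card (n := 1) (by rw [Nat.card_zpowers, hx, pow_one])
    obtain ⟨U, hU⟩ := hp.exists_le_sylow
    obtain ⟨k, hk⟩ := MulAction.exists_smul_eq G T U
    have hxU : x ∈ (U : Subgroup G) := hU (mem_zpowers x)
    rw [← hk] at hxU
    obtain ⟨e, he, rfl⟩ := hxU
    have he' : e ∈ D.E0 := by rw [← hSE, hST]; exact he
    refine (hE.conj e he' ?_).trans (isConj_iff.2 ⟨k, rfl⟩)
    rintro rfl
    simp at hx
  set Z := center G with hZdef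
  have htZ : D.t ∉ Z := by
    intro h
    have hu : ∀ u, IsConj D.t u → u = D.t := fun u hu => by
      obtain ⟨g, rfl⟩ := isConj_iff.1 hu
      rw [mem_center_iff.1 h g, mul_inv_cancel_right]
    have hall : center G = ⊤ := eq_top_iff.2 fun g _ => hcenter g fun u hu' => by
      rw [hu u hu']; exact mem_center_iff.1 h g
    have hb : commutator G = ⊥ := by
      rw [_root_.commutator_def, commutator_eq_bot_iff_le_centralizer]
      intro a _ b _
      exact mem_center_iff.1 (hall ▸ mem_top a) b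
    rw [hperf] at hb
    exact ht1 (by simpa [hb] using mem_top D.t)
  have hbig : ∀ N : Subgroup G, N.Normal → ¬ Odd (Nat.card N) → N = ⊤ := by
    intro N hN hev
    obtain ⟨⟨x, hxN⟩, hx⟩ := exists_prime_orderOf_dvd_card' (G := N) 2
      (even_iff_two_dvd.1 (Nat.not_odd_iff_even.1 hev))
    rw [orderOf_mk] at hx
    rw [eq_top_iff, ← hnc]
    refine normalClosure_le_normal (Set.singleton_subset_iff.2 ?_)
    obtain ⟨g, hg⟩ := isConj_iff.1 (hinvol x hx).symm
    exact hg ▸ hN.conj_mem x hxN g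
  have hZodd : Odd (Nat.card Z) := by
    by_contra hev
    have := hbig Z inferInstance hev
    exact htZ (this ▸ mem_top _)
  set π := QuotientGroup.mk' Z with hπdef
  haveI : Nontrivial (G ⧸ Z) := QuotientGroup.nontrivial_iff.2 fun h => htZ (h ▸ mem_top _)
  haveI hsimple : IsSimpleGroup (G ⧸ Z) := ⟨fun N hN => by
    by_cases hodd : Odd (Nat.card (N.comap π))
    · left
      rw [eq_bot_iff]
      intro q hq
      obtain ⟨g, rfl⟩ := QuotientGroup.mk'_surjective Z q
      exact mem_bot.2 ((QuotientGroup.eq_one_iff g).2 (hoddN _ (hN.comap π) hodd hq))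
    · right
      have h := hbig _ (hN.comap π) hodd
      rw [eq_top_iff]
      intro q _
      obtain ⟨g, rfl⟩ := QuotientGroup.mk'_surjective Z q
      exact (h ▸ mem_top g : g ∈ N.comap π)⟩
  have hWZ : ∀ w : HM, D.ι w ∈ Z → w = 1 := by
    intro w hw
    rcases center_model w (D.ι_injective (by rw [map_mul, map_mul]; exact (mem_center_iff.1 hw _).symm))
      (D.ι_injective (by rw [map_mul, map_mul]; exact (mem_center_iff.1 hw _).symm))
      (D.ι_injective (by rw [map_mul, map_mul]; exact (mem_center_iff.1 hw _).symm)) with h | h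
    · exact h
    · exfalso; rw [h, D.ι_t] at hw; exact htZ hw
  let κ : HM →* centralizer ({π D.t} : Set (G ⧸ Z)) := (π.comp D.ι).codRestrict _ fun w =>
    mem_cent_singleton.2 ((D.central (by rw [← D.ι_range]; exact ⟨w, rfl⟩)).map π)
  have hκi : Function.Injective κ := by
    rw [injective_iff_map_eq_one]
    intro w hw
    exact hWZ w ((QuotientGroup.eq_one_iff _).1 (congrArg Subtype.val hw))
  have hκs : Function.Surjective κ := by
    rintro ⟨q, hq⟩
    obtain ⟨g, rfl⟩ := QuotientGroup.mk'_surjective Z q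
    have hz : g * D.t * g⁻¹ * D.t⁻¹ ∈ Z := (QuotientGroup.eq_one_iff _).1 (by
      show π (g * D.t * g⁻¹ * D.t⁻¹) = 1
      have hq' : π g * π D.t = π D.t * π g := (mem_cent_singleton.1 hq).eq
      rw [map_mul, map_mul, map_mul, map_inv, map_inv, hq']; group)
    set z := g * D.t * g⁻¹ * D.t⁻¹ with hzdef
    have hgt : g * D.t * g⁻¹ = z * D.t := by rw [hzdef]; group
    have hz2 : z * z = 1 := by
      have h : g * D.t * g⁻¹ * (g * D.t * g⁻¹) = 1 := by
        calc g * D.t * g⁻¹ * (g * D.t * g⁻¹) = g * (D.t * D.t) * g⁻¹ := by group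
          _ = 1 := by rw [htt]; group
      rw [hgt] at h
      calc z * z = z * (D.t * D.t) * z := by rw [htt, mul_one]
        _ = z * D.t * (D.t * z) := by group
        _ = 1 := by rw [mem_center_iff.1 hz D.t]; exact h
    have hz1 : z = 1 := by
      by_contra h1
      have h3 := orderOf_dvd_natCard (⟨z, hz⟩ : Z)
      rw [orderOf_mk, orderOf_two hz2 h1] at h3
      exact Nat.not_even_iff_odd.2 hZodd (even_iff_two_dvd.2 h3)
    rw [hz1, one_mul] at hgt
    obtain ⟨w, hw, d, hd, rfl⟩ := D.cent_split (IsConj.refl _) (mul_inv_eq_iff_eq_mul.1 hgt)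
    rw [← D.W_eq, ← D.ι_range] at hw
    obtain ⟨w, rfl⟩ := hw
    obtain ⟨s, hs, y, hy, hsy⟩ := hCdec d (D.cent_Wu_le hE D.t_mem_E0 hd)
    rw [hSE] at hs
    obtain ⟨_, ⟨v, rfl⟩, rfl⟩ := hs
    refine ⟨w * sv v, Subtype.ext ?_⟩
    show π (D.ι (w * sv v)) = π (D.ι w * d)
    rw [hsy, map_mul D.ι, ← mul_assoc, map_mul π (D.ι w * D.ι (sv v)) y]
    rw [show π y = 1 from (QuotientGroup.eq_one_iff y).2 hy, mul_one]
  -- the order
  have hπs : Function.Surjective π := QuotientGroup.mk'_surjective Z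
  have htc : Cfsg.IsTwoCentralInvolution (π D.t) := by
    refine ⟨orderOf_two (by rw [← map_mul, htt, map_one])
      (fun h => htZ ((QuotientGroup.eq_one_iff _).1 h)), T.mapSurjective hπs, ?_, ?_⟩
    · exact ⟨D.t, hST ▸ hE0S D.t_mem_E0, rfl⟩
    · rintro _ ⟨x, hx, rfl⟩
      have hx' : x ∈ D.E0 := by rw [← hSE, hST]; exact hx
      exact ((hE.comm x hx' _ D.t_mem_E0).map π).eq
  have hq : Nat.card (G ⧸ Z) = 175560 :=
    (S0448.result (π D.t) htc (MulEquiv.ofBijective κ ⟨hκi, hκs⟩).symm).2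
  have hker : π.ker = Z := QuotientGroup.ker_mk' Z
  have hZbot : π.ker = ⊥ := by
    refine KnownSimple.ker_eq_bot_of_local π ⟨hπs, hker.le, by rw [hperf]; exact le_top⟩ fun ℓ hℓ => ?_
    haveI := Fact.mk hℓ
    by_cases h2 : ℓ = 2
    · subst h2
      refine ⟨(T.mapSurjective hπs : Subgroup (G ⧸ Z)), (T.mapSurjective hπs).not_dvd_index,
        KnownSimple.inf_commutator_eq_bot_of_comm π _ ?_⟩
      have hdec : ∀ x ∈ ((T.mapSurjective hπs : Subgroup (G ⧸ Z))).comap π,
          ∃ e ∈ D.E0, ∃ z ∈ center G, x = e * z := by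
        intro x hx
        obtain ⟨e, he, hex⟩ := hx
        refine ⟨e, by rw [← hSE, hST]; exact he, e⁻¹ * x, ?_, by group⟩
        exact (QuotientGroup.eq (s := Z)).1 hex
      intro x hx y hy
      obtain ⟨e, he, z, hz, rfl⟩ := hdec x hx
      obtain ⟨e', he', z', hz', rfl⟩ := hdec y hy
      rw [Schur.commutatorElement_mul_central hz hz', commutatorElement_eq_one_iff_mul_comm]
      exact (hE.comm e he e' he').eq
    · obtain ⟨P⟩ : Nonempty (Sylow ℓ (G ⧸ Z)) := inferInstance
      have hP : IsCyclic (P : Subgroup (G ⧸ Z)) := by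
        obtain ⟨n, hn⟩ := P.isPGroup'.exists_card_eq
        rcases Nat.lt_or_ge n 2 with h | h
        · interval_cases n
          · rw [pow_zero] at hn
            haveI : Subsingleton (P : Subgroup (G ⧸ Z)) := (Nat.card_eq_one_iff_unique.mp hn).1
            infer_instance
          · rw [pow_one] at hn
            exact isCyclic_of_prime_card hn
        · exfalso
          have hd : ℓ ^ 2 ∣ 175560 := (pow_dvd_pow ℓ h).trans (hn ▸ hq ▸ card_subgroup_dvd_card _)
          have hl : ℓ ≤ 419 := by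
            by_contra hgt
            push Not at hgt
            have := Nat.le_of_dvd (by norm_num) hd
            have : 420 ^ 2 ≤ ℓ ^ 2 := Nat.pow_le_pow_left hgt 2
            omega
          have hfin : ∀ l : Fin 420, l.val ^ 2 ∣ 175560 → l.val ≤ 2 := by decide +kernel
          have := hfin ⟨ℓ, by omega⟩ hd
          have := hℓ.two_le
          simp only at *
          omega
      exact ⟨P, P.not_dvd_index, KnownSimple.inf_commutator_eq_bot_of_comm π _ fun x hx y hy =>
        KnownSimple.comm_of_cyclic π hker.le _ hπs hx hy⟩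
  rw [hker] at hZbot
  let eq : G ≃* G ⧸ Z := MulEquiv.ofBijective π
    ⟨by rw [← MonoidHom.ker_eq_bot_iff, hker, hZbot], hπs⟩
  refine ⟨?_, by rw [Nat.card_congr eq.toEquiv, hq]⟩
  haveI : Nontrivial G := ⟨D.t, 1, ht1⟩
  exact IsSimpleGroup.isSimpleGroup_of_surjective eq.symm.toMonoidHom eq.symm.surjective

end Cfsg.Agent.WeakJ1
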