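import Cfsg.Agent.WeakJ1.Model

/-!
An involution whose commuting conjugates generate `C₂ × A₅` and fuse its elementary abelian
subgroups of order eight.
-/

set_option autoImplicit false
set_option linter.style.haveILetI false

namespace Cfsg.Agent.WeakJ1

open Cfsg.Agent.J1Order38.Model Subgroup

/-- The configuration. -/
structure Hyp (G : Type*) [Group G] where
  t : G
  W : Subgroup G
  e : W ≃* HM
  mem : t ∈ W
  et : e ⟨t, mem⟩ = g0 3
  conj : ∀ x ∈ W, orderOf x = 2 → IsConj t x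
  closed : ∀ x, IsConj t x → Commute x t → x ∈ W
  split : centralizer ({t} : Set G) ≤ W ⊔ centralizer (W : Set G)

theorem mem_cent_singleton {G : Type*} [Group G] {x u : G} :
    x ∈ centralizer ({u} : Set G) ↔ Commute x u := by
  rw [mem_centralizer_singleton_iff]; rfl

theorem mem_sup_centralizer {G : Type*} [Group G] {A : Subgroup G} {c : G}
    (h : c ∈ A ⊔ centralizer (A : Set G)) : ∃ a ∈ A, ∃ d ∈ centralizer (A : Set G), c = a * d := by
  have hd : ∀ a ∈ A, ∀ d ∈ centralizer (A : Set G), Commute a d := fun a ha d hd => hd a ha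
  let P : Subgroup G :=
    { carrier := {c | ∃ a ∈ A, ∃ d ∈ centralizer (A : Set G), c = a * d}
      one_mem' := ⟨1, A.one_mem, 1, one_mem _, (mul_one 1).symm⟩
      mul_mem' := by
        rintro _ _ ⟨a, ha, d, hdd, rfl⟩ ⟨b, hb, f, hf, rfl⟩
        refine ⟨a * b, mul_mem ha hb, d * f, mul_mem hdd hf, ?_⟩
        calc a * d * (b * f) = a * (d * b) * f := by group
          _ = a * (b * d) * f := by rw [(hd b hb d hdd).eq]
          _ = a * b * (d * f) := by group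
      inv_mem' := by
        rintro _ ⟨a, ha, d, hdd, rfl⟩
        refine ⟨a⁻¹, inv_mem ha, d⁻¹, inv_mem hdd, ?_⟩
        rw [mul_inv_rev, (hd _ (inv_mem ha) _ (inv_mem hdd)).eq] }
  have hle : A ⊔ centralizer (A : Set G) ≤ P := sup_le (fun a ha => ⟨a, ha, 1, one_mem _, (mul_one a).symm⟩)
    (fun d hd => ⟨1, A.one_mem, d, hd, (one_mul d).symm⟩)
  exact hle h

theorem orderOf_two {G : Type*} [Group G] {x : G} (h1 : x * x = 1) (h2 : x ≠ 1) : orderOf x = 2 :=
  haveI : Fact (Nat.Prime 2) := ⟨Nat.prime_two⟩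
  orderOf_eq_prime (by rw [pow_two]; exact h1) h2

theorem mem_of_sq {G : Type*} [Group G] (H : Subgroup G) {x : G} {n : ℕ} (hn : n % 2 = 1)
    (hx : x ^ n ∈ H) (hx2 : x ^ 2 ∈ H) : x ∈ H := by
  have hp : x ^ (2 * (n / 2)) ∈ H := by rw [pow_mul]; exact pow_mem hx2 _
  have : x ^ n = x ^ (2 * (n / 2)) * x := by
    rw [← pow_succ]; congr 1; omega
  rw [this] at hx
  exact (mul_mem_cancel_left hp).1 hx

theorem fixed_mod {α : Type*} [Finite α] (p : ℕ) [Fact p.Prime] (f : α → α) (k : ℕ)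
    (hf : ∀ x, f^[p ^ k] x = x) : Nat.card α % p = Nat.card {x : α // f x = x} % p := by
  classical
  haveI := Fintype.ofFinite α
  let F : Function.End α := f
  have hpow : ∀ (m : ℕ) (x : α), (F ^ m : Function.End α) x = f^[m] x := by
    intro m
    induction m with
    | zero => intro x; rfl
    | succ m ih =>
      intro x
      rw [pow_succ', Function.iterate_succ', Function.comp_apply, ← ih]
      rfl
  have h : F ^ p ^ k = 1 := funext fun x => (hpow _ x).trans (hf x)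
  have h1 := Equiv.Perm.card_fixedPoints_modEq (f := F) h
  rw [Nat.card_eq_fintype_card, Nat.card_eq_fintype_card]
  refine Eq.trans h1 (congrArg (· % p) ?_)
  exact Fintype.card_congr (Equiv.subtypeEquivRight fun x => Iff.rfl)

variable {G : Type*} [Group G] (D : Hyp G)

/-- The embedding of the model. -/
def Hyp.ι : HM →* G := D.W.subtype.comp D.e.symm.toMonoidHom

theorem Hyp.ι_injective : Function.Injective D.ι :=
  (Subgroup.subtype_injective _).comp D.e.symm.injective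

theorem Hyp.ι_range : D.ι.range = D.W := by
  ext x
  refine ⟨?_, fun hx => ⟨D.e ⟨x, hx⟩, ?_⟩⟩
  · rintro ⟨z, rfl⟩
    exact (D.e.symm z).2
  · show ((D.e.symm (D.e ⟨x, hx⟩) : D.W) : G) = x
    rw [MulEquiv.symm_apply_apply]

theorem Hyp.ι_t : D.ι (g0 3) = D.t := by
  show ((D.e.symm (g0 3) : D.W) : G) = D.t
  rw [← D.et, MulEquiv.symm_apply_apply]

theorem Hyp.ord : orderOf D.t = 2 := by
  rw [← D.ι_t, orderOf_injective _ D.ι_injective]
  exact orderOf_two (by rw [← sv_one, sv_sq]) (fun h => by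
    rw [← sv_one, ← sv_zero] at h; exact absurd (sv_inj _ _ h) (by decide))

theorem Hyp.central {x : G} (hx : x ∈ D.W) : Commute x D.t := by
  rw [← D.ι_range] at hx
  obtain ⟨z, rfl⟩ := hx
  rw [← D.ι_t]
  exact (show Commute z (g0 3) from central_t z).map D.ι

/-- The weak closure at a conjugate. -/
def Hyp.Wu (u : G) : Subgroup G := closure {x | IsConj D.t x ∧ Commute x u}

theorem Hyp.mem_Wu {u x : G} (hx : IsConj D.t x) (h : Commute x u) : x ∈ D.Wu u :=
  subset_closure ⟨hx, h⟩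

theorem Hyp.conj_mem_Wu {u x : G} (g : G) (hx : x ∈ D.Wu u) :
    g * x * g⁻¹ ∈ D.Wu (g * u * g⁻¹) := by
  have hle : D.Wu u ≤ (D.Wu (g * u * g⁻¹)).comap (MulAut.conj g).toMonoidHom := by
    refine (closure_le _).2 ?_
    rintro y ⟨hy, hc⟩
    exact D.mem_Wu (hy.trans (isConj_iff.2 ⟨g, rfl⟩)) (hc.map (MulAut.conj g).toMonoidHom)
  exact hle hx

theorem Hyp.W_eq : D.W = D.Wu D.t := by
  refine le_antisymm ?_ ((closure_le _).2 fun x hx => D.closed x hx.1 hx.2)
  intro x hx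
  obtain ⟨z, rfl⟩ : x ∈ D.ι.range := by rw [D.ι_range]; exact hx
  obtain ⟨i, hi, hiz⟩ := two_invols z
  have hone : ∀ j : HM, j * j = 1 → D.ι j ∈ D.Wu D.t := by
    intro j hj
    by_cases h1 : j = 1
    · rw [h1, map_one]; exact one_mem _
    · have hj' : D.ι j ∈ D.W := by rw [← D.ι_range]; exact ⟨j, rfl⟩
      refine D.mem_Wu (D.conj _ hj' ?_) (D.central hj')
      rw [orderOf_injective _ D.ι_injective]
      exact orderOf_two hj h1
  have hz : z = i * (i * z) := by rw [← mul_assoc, hi, one_mul]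
  rw [hz, map_mul]
  exact mul_mem (hone i hi) (hone _ hiz)

theorem Hyp.t_mem_Wu : D.t ∈ D.Wu D.t := D.W_eq ▸ D.mem

/-- The configuration at a conjugate. -/
noncomputable def Hyp.conjBy (g : G) : Hyp G where
  t := g * D.t * g⁻¹
  W := D.W.map (MulAut.conj g).toMonoidHom
  e := (D.W.equivMapOfInjective _ (MulAut.conj g).injective).symm.trans D.e
  mem := ⟨D.t, D.mem, rfl⟩
  et := by
    rw [MulEquiv.trans_apply, ← D.et]
    congr 1
    rw [MulEquiv.symm_apply_eq]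
    exact Subtype.ext rfl
  conj x hx ho := by
    obtain ⟨y, hy, rfl⟩ := hx
    have h : orderOf y = 2 := by
      rw [← ho]; exact (orderOf_injective _ (MulAut.conj g).injective y).symm
    exact ((isConj_iff.2 ⟨g, rfl⟩).symm.trans (D.conj y hy h)).trans (isConj_iff.2 ⟨g, rfl⟩)
  closed x hx hc := by
    refine ⟨g⁻¹ * x * g, D.closed _ ?_ ?_, ?_⟩
    · exact ((isConj_iff.2 ⟨g, rfl⟩ : IsConj D.t (g * D.t * g⁻¹)).trans hx).trans
        (isConj_iff.2 ⟨g⁻¹, by group⟩)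
    · have := hc.map (MulAut.conj g⁻¹).toMonoidHom
      simpa [mul_assoc] using this
    · show g * (g⁻¹ * x * g) * g⁻¹ = x
      group
  split c hc := by
    have hc' : g⁻¹ * c * g ∈ centralizer ({D.t} : Set G) := by
      rw [mem_cent_singleton] at hc ⊢
      have := hc.map (MulAut.conj g⁻¹).toMonoidHom
      simpa [mul_assoc] using this
    obtain ⟨a, ha, d, hd, he⟩ := mem_sup_centralizer (D.split hc')
    have hce : c = (g * a * g⁻¹) * (g * d * g⁻¹) := by
      rw [show c = g * (g⁻¹ * c * g) * g⁻¹ by group, he]; group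
    rw [hce]
    refine mul_mem (mem_sup_left ⟨a, ha, rfl⟩) (mem_sup_right ?_)
    rintro _ ⟨b, hb, rfl⟩
    exact (show Commute b d from hd b hb).map (MulAut.conj g).toMonoidHom

theorem Hyp.exists_at {u : G} (hu : IsConj D.t u) :
    ∃ D' : Hyp G, D'.t = u ∧ D'.W = D.Wu u ∧ ∀ x, IsConj D'.t x ↔ IsConj D.t x := by
  obtain ⟨g, hg⟩ := isConj_iff.1 hu
  refine ⟨D.conjBy g, hg, ?_, fun x => ⟨fun h => hu.trans (hg ▸ h), fun h => by show IsConj (g * D.t * g⁻¹) x; rw [hg]; exact hu.symm.trans h⟩⟩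
  rw [(D.conjBy g).W_eq]
  show closure {x | IsConj (g * D.t * g⁻¹) x ∧ Commute x (g * D.t * g⁻¹)} = _
  rw [hg]
  unfold Hyp.Wu
  congr 1
  ext x
  exact ⟨fun h => ⟨hu.trans h.1, h.2⟩, fun h => ⟨hu.symm.trans h.1, h.2⟩⟩

theorem Hyp.conj_of_mem_Wu {u x : G} (hu : IsConj D.t u) (hx : x ∈ D.Wu u) (ho : orderOf x = 2) :
    IsConj D.t x := by
  obtain ⟨D', -, hW, hiff⟩ := D.exists_at hu
  exact (hiff x).1 (D'.conj x (hW ▸ hx) ho)

theorem Hyp.commute_of_mem_Wu {u x : G} (hu : IsConj D.t u) (hx : x ∈ D.Wu u) : Commute x u := by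
  obtain ⟨D', ht, hW, -⟩ := D.exists_at hu
  exact ht ▸ D'.central (hW ▸ hx)

theorem Hyp.cent_split {u c : G} (hu : IsConj D.t u) (hc : Commute c u) :
    ∃ w ∈ D.Wu u, ∃ d ∈ centralizer (D.Wu u : Set G), c = w * d := by
  obtain ⟨D', ht, hW, -⟩ := D.exists_at hu
  have := mem_sup_centralizer (D'.split (mem_cent_singleton.2 (ht.symm ▸ hc)))
  rwa [hW] at this

/-- An elementary subgroup of order eight of conjugates. -/
structure Hyp.IsE (E : Subgroup G) : Prop where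
  card : Nat.card E = 8
  comm : ∀ x ∈ E, ∀ y ∈ E, Commute x y
  conj : ∀ x ∈ E, x ≠ 1 → IsConj D.t x

variable {D} in
theorem Hyp.IsE.sq {E : Subgroup G} (hE : D.IsE E) {x : G} (hx : x ∈ E) : x * x = 1 := by
  by_cases h1 : x = 1
  · rw [h1, one_mul]
  · obtain ⟨g, rfl⟩ := isConj_iff.1 (hE.conj x hx h1)
    have h2 : D.t * D.t = 1 := by rw [← pow_two, ← D.ord, pow_orderOf_eq_one]
    calc g * D.t * g⁻¹ * (g * D.t * g⁻¹) = g * (D.t * D.t) * g⁻¹ := by group
      _ = 1 := by rw [h2]; group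

variable {D} in
theorem Hyp.IsE.le_Wu {E : Subgroup G} (hE : D.IsE E) {a : G} (ha : a ∈ E) : E ≤ D.Wu a := by
  intro x hx
  by_cases h1 : x = 1
  · rw [h1]; exact one_mem _
  · exact D.mem_Wu (hE.conj x hx h1) (hE.comm x hx a ha)

/-- The standard subgroup. -/
def Hyp.E0 : Subgroup G := eModel.map D.ι

theorem Hyp.t_mem_E0 : D.t ∈ D.E0 := ⟨g0 3, ⟨1, sv_one⟩, D.ι_t⟩

theorem Hyp.E0_le : D.E0 ≤ D.W := by
  rintro _ ⟨z, -, rfl⟩
  rw [← D.ι_range]
  exact ⟨z, rfl⟩

theorem Hyp.isE_E0 : D.IsE D.E0 where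
  card := by
    rw [E0, card_map_of_injective D.ι_injective, card_eModel]
  comm := by
    rintro _ ⟨_, ⟨v, rfl⟩, rfl⟩ _ ⟨_, ⟨w, rfl⟩, rfl⟩
    exact (show Commute (sv v) (sv w) from sv_comm v w).map D.ι
  conj x hx h1 := by
    refine D.conj x (D.E0_le hx) (orderOf_two ?_ h1)
    obtain ⟨_, ⟨v, rfl⟩, rfl⟩ := hx
    rw [← map_mul, sv_sq, map_one]

theorem Hyp.exists_frame {E : Subgroup G} (hE : D.IsE E) {a : G} (ha : a ∈ E) (ha1 : a ≠ 1) :
    ∃ ε : HM →* G, Function.Injective ε ∧ ε.range = D.Wu a ∧ ε (g0 3) = a ∧ E = eModel.map ε := by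
  obtain ⟨D', ht, hW, -⟩ := D.exists_at (hE.conj a ha ha1)
  have hle : E ≤ D'.W := hW ▸ hE.le_Wu ha
  set F := E.comap D'.ι with hF
  have hmap : F.map D'.ι = E := by
    rw [hF, map_comap_eq, D'.ι_range, inf_eq_right]
    exact hle
  have hc : Nat.card F = 8 := by
    rw [← hE.card, ← hmap, card_map_of_injective D'.ι_injective]
  obtain ⟨w, hw⟩ := conj_eModel F hc
  refine ⟨D'.ι.comp (MulAut.conj w⁻¹).toMonoidHom, D'.ι_injective.comp (MulAut.conj w⁻¹).injective,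
    ?_, ?_, ?_⟩
  · rw [← hW, ← D'.ι_range, MonoidHom.range_comp,
      MonoidHom.range_eq_top.2 (MulAut.conj w⁻¹).surjective, MonoidHom.range_eq_map]
  · show D'.ι (w⁻¹ * g0 3 * w⁻¹⁻¹) = a
    rw [← ht, ← D'.ι_t]
    congr 1
    rw [central_t w⁻¹, mul_inv_cancel_right]
  · rw [← map_map, ← hw, map_map (g := (MulAut.conj w⁻¹).toMonoidHom)]
    conv_lhs => rw [← hmap]
    congr 1
    ext z
    simp [Subgroup.mem_map, mul_assoc]

theorem Hyp.centE {E : Subgroup G} (hE : D.IsE E) {a c : G} (ha : a ∈ E) (ha1 : a ≠ 1)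
    (hc : c ∈ centralizer (E : Set G)) :
    ∃ x ∈ E, ∃ d ∈ centralizer (D.Wu a : Set G), c = x * d := by
  obtain ⟨w, hw, d, hd, rfl⟩ := D.cent_split (hE.conj a ha ha1)
    (show Commute (c) a from (hc a ha).symm)
  refine ⟨w, ?_, d, hd, rfl⟩
  obtain ⟨ε, hεi, hεr, -, hεE⟩ := D.exists_frame hE ha ha1
  rw [← hεr] at hw
  obtain ⟨z, rfl⟩ := hw
  obtain ⟨v, rfl⟩ := centralizer_eModel (z := z) fun v => hεi (by
    have hv : ε (sv v) ∈ E := by rw [hεE]; exact ⟨sv v, ⟨v, rfl⟩, rfl⟩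
    have h1 : ε (sv v) * (ε z * d) = ε z * d * ε (sv v) := hc _ hv
    have h2 : ε (sv v) * d = d * ε (sv v) := hd _ (hE.le_Wu ha hv)
    rw [map_mul, map_mul]
    refine mul_right_cancel (b := d) ?_
    calc ε z * ε (sv v) * d = ε z * (d * ε (sv v)) := by rw [mul_assoc, h2]
      _ = ε (sv v) * (ε z * d) := by rw [h1, mul_assoc]
      _ = ε (sv v) * ε z * d := by rw [mul_assoc])
  rw [hεE]
  exact ⟨sv v, ⟨v, rfl⟩, rfl⟩

theorem Hyp.cent_Wu_le {E : Subgroup G} (hE : D.IsE E) {a : G} (ha : a ∈ E) :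
    centralizer (D.Wu a : Set G) ≤ centralizer (E : Set G) :=
  centralizer_le (fun _ hx => hE.le_Wu ha hx)

theorem Hyp.odd_centE {E : Subgroup G} (hE : D.IsE E) {a c : G} (ha : a ∈ E) (ha1 : a ≠ 1)
    (hc : c ∈ centralizer (E : Set G)) (hodd : Odd (orderOf c)) :
    c ∈ centralizer (D.Wu a : Set G) := by
  obtain ⟨x, hx, d, hd, rfl⟩ := D.centE hE ha ha1 hc
  have hxd : Commute x d := hd x (hE.le_Wu ha hx)
  refine mem_of_sq _ (Nat.odd_iff.1 hodd) (by rw [pow_orderOf_eq_one]; exact one_mem _) ?_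
  rw [hxd.mul_pow, pow_two x, hE.sq hx, one_mul]
  exact pow_mem hd 2

/-- An element of order three attached to a point of an elementary subgroup. -/
def Hyp.IsH (E : Subgroup G) (a h : G) : Prop :=
  h ∈ D.Wu a ∧ (∀ x ∈ E, h * x * h⁻¹ ∈ E) ∧ h ^ 3 = 1 ∧ h * a * h⁻¹ = a ∧
    ∀ x ∈ E, h * x * h⁻¹ = x → x = 1 ∨ x = a

theorem Hyp.isH_frame {E : Subgroup G} {a : G} {ε : HM →* G}
    (hεi : Function.Injective ε) (hεr : ε.range = D.Wu a) (hεt : ε (g0 3) = a)
    (hεE : E = eModel.map ε) : D.IsH E a (ε (g0 1)) := by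
  refine ⟨hεr ▸ ⟨g0 1, rfl⟩, ?_, by rw [← map_pow, b_cube, map_one], ?_, ?_⟩
  · rw [hεE]
    rintro _ ⟨_, ⟨v, rfl⟩, rfl⟩
    exact ⟨sv (beta v), ⟨beta v, rfl⟩, by rw [← beta_ok, map_mul, map_mul, map_inv]⟩
  · rw [← hεt, ← map_inv, ← map_mul, ← map_mul, central_t (g0 1), mul_inv_cancel_right]
  · rw [hεE]
    rintro _ ⟨_, ⟨v, rfl⟩, rfl⟩ h
    rw [← map_inv, ← map_mul, ← map_mul, beta_ok] at h
    rcases beta_fix v (sv_inj _ _ (hεi h)) with rfl | rfl
    · left; rw [sv_zero, map_one]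
    · right; rw [sv_one, hεt]

theorem Hyp.exists_isH {E : Subgroup G} (hE : D.IsE E) {a : G} (ha : a ∈ E) (ha1 : a ≠ 1) :
    ∃ h, D.IsH E a h := by
  obtain ⟨ε, hεi, hεr, hεt, hεE⟩ := D.exists_frame hE ha ha1
  exact ⟨_, D.isH_frame hεi hεr hεt hεE⟩

theorem Hyp.isH_comm {E : Subgroup G} (hE : D.IsE E) {a h c : G} (ha : a ∈ E) (ha1 : a ≠ 1)
    (hh : D.IsH E a h) (hc : c ∈ centralizer (E : Set G)) : c⁻¹ * (h * c * h⁻¹) ∈ E := by
  obtain ⟨x, hx, d, hd, rfl⟩ := D.centE hE ha ha1 hc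
  have hhd : h * d = d * h := hd h hh.1
  have hx' := hh.2.1 x hx
  have hdc : ∀ y ∈ E, y * d = d * y := fun y hy => hd y (hE.le_Wu ha hy)
  have : (x * d)⁻¹ * (h * (x * d) * h⁻¹) = x⁻¹ * (h * x * h⁻¹) := by
    have e1 : h * (x * d) * h⁻¹ = (h * x * h⁻¹) * d := by
      calc h * (x * d) * h⁻¹ = (h * x * h⁻¹) * (h * d) * h⁻¹ := by group
        _ = (h * x * h⁻¹) * d := by rw [hhd]; group
    have e2 := hdc _ (mul_mem (inv_mem hx) hx')
    rw [e1, mul_inv_rev]
    calc d⁻¹ * x⁻¹ * (h * x * h⁻¹ * d) = d⁻¹ * ((x⁻¹ * (h * x * h⁻¹)) * d) := by group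
      _ = x⁻¹ * (h * x * h⁻¹) := by rw [e2]; group
  rw [this]
  exact mul_mem (inv_mem hx) hx'

/-- Elements attached to all points of an elementary subgroup fuse it. -/
theorem Hyp.fused [Finite G] {E : Subgroup G} (hE : D.IsE E) (K : Subgroup G)
    (hK : ∀ a ∈ E, a ≠ 1 → ∃ h ∈ K, D.IsH E a h) {y x : G} (hy : y ∈ E) (hy1 : y ≠ 1)
    (hx : x ∈ E) (hx1 : x ≠ 1) : ∃ k ∈ K, k * y * k⁻¹ = x := by
  classical
  haveI : Fact (Nat.Prime 3) := ⟨Nat.prime_three⟩
  set P : G → Prop := fun z => z ∈ E ∧ z ≠ 1 ∧ ∃ k ∈ K, k * y * k⁻¹ = z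
  let β := {z : G // P z}
  by_contra hnot
  have hstep : ∀ a h, h ∈ K → D.IsH E a h → ∀ z : β, P (h * z.1 * h⁻¹) := by
    rintro a h hhK hh ⟨z, hzE, hz1, k, hk, rfl⟩
    exact ⟨hh.2.1 _ hzE, fun e => hz1 (conj_eq_one_iff.1 e), h * k, mul_mem hhK hk, by group⟩
  have hmod : ∀ a h, h ∈ K → D.IsH E a h → ∀ n : ℕ, (n = 0 ↔ ¬ P a) → n ≤ 1 →
      Nat.card β % 3 = n := by
    intro a h hhK hh n hn hn1
    let f : β → β := fun z => ⟨h * z.1 * h⁻¹, hstep a h hhK hh z⟩
    have hf : ∀ z, f^[3 ^ 1] z = z := fun z => Subtype.ext (by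
      show h * (h * (h * z.1 * h⁻¹) * h⁻¹) * h⁻¹ = z.1
      have h3 : h * h * h = 1 := by rw [← pow_three', hh.2.2.1]
      calc h * (h * (h * z.1 * h⁻¹) * h⁻¹) * h⁻¹ = (h * h * h) * z.1 * (h * h * h)⁻¹ := by group
        _ = z.1 := by rw [h3, inv_one, one_mul, mul_one])
    rw [fixed_mod 3 f 1 hf]
    rcases Nat.le_one_iff_eq_zero_or_eq_one.1 hn1 with rfl | rfl
    · haveI : IsEmpty {z : β // f z = z} := ⟨fun ⟨z, hz⟩ => by
        rcases hh.2.2.2.2 z.1 z.2.1 (congrArg Subtype.val hz) with h1 | h1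
        · exact z.2.2.1 h1
        · exact hn.1 rfl (h1 ▸ z.2)⟩
      rw [Nat.card_of_isEmpty]
    · have hPa : P a := by
        by_contra h0; exact one_ne_zero (hn.2 h0)
      haveI : Subsingleton {z : β // f z = z} := ⟨fun z w => by
        have hz : ∀ u : {z : β // f z = z}, u.1.1 = a := fun u => by
          rcases hh.2.2.2.2 u.1.1 u.1.2.1 (congrArg Subtype.val u.2) with h1 | h1
          · exact absurd h1 u.1.2.2.1
          · exact h1
        exact Subtype.ext (Subtype.ext ((hz z).trans (hz w).symm))⟩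
      haveI : Nonempty {z : β // f z = z} := ⟨⟨⟨a, hPa⟩, Subtype.ext hh.2.2.2.1⟩⟩
      rw [Nat.card_of_subsingleton ⟨⟨a, hPa⟩, Subtype.ext hh.2.2.2.1⟩]
  obtain ⟨h, hhK, hh⟩ := hK y hy hy1
  obtain ⟨h', hh'K, hh'⟩ := hK x hx hx1
  have hPy : P y := ⟨hy, hy1, 1, one_mem _, by group⟩
  have h1 := hmod y h hhK hh 1 ⟨fun e => absurd e one_ne_zero, fun e => absurd hPy e⟩ le_rfl
  have h0 := hmod x h' hh'K hh' 0 ⟨fun _ hP => hnot hP.2.2, fun _ => rfl⟩ (Nat.zero_le _)
  omega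

theorem Hyp.stab_decomp {E : Subgroup G} (hE : D.IsE E) {a n : G} (ha : a ∈ E) (ha1 : a ≠ 1)
    (hn : ∀ x ∈ E, n * x * n⁻¹ ∈ E) (hna : n * a * n⁻¹ = a) :
    ∃ h, D.IsH E a h ∧ ∃ k : ℕ, ∃ c ∈ centralizer (E : Set G), n = h ^ k * c := by
  obtain ⟨ε, hεi, hεr, hεt, hεE⟩ := D.exists_frame hE ha ha1
  refine ⟨_, D.isH_frame hεi hεr hεt hεE, ?_⟩
  obtain ⟨w, hw, d, hd, rfl⟩ := D.cent_split (hE.conj a ha ha1)
    (show Commute n a from mul_inv_eq_iff_eq_mul.1 hna)
  rw [← hεr] at hw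
  obtain ⟨z, rfl⟩ := hw
  have hdc := D.cent_Wu_le hE ha hd
  have hz : ∀ v, ∃ u, z * sv v * z⁻¹ = sv u := by
    intro v
    have hv : ε (sv v) ∈ E := by rw [hεE]; exact ⟨sv v, ⟨v, rfl⟩, rfl⟩
    have h1 := hn _ hv
    have h2 : ε z * d * ε (sv v) * (ε z * d)⁻¹ = ε (z * sv v * z⁻¹) := by
      have h3 : d * ε (sv v) = ε (sv v) * d := (hdc _ hv).symm
      rw [map_mul, map_mul, map_inv]
      calc ε z * d * ε (sv v) * (ε z * d)⁻¹ = ε z * (d * ε (sv v)) * d⁻¹ * (ε z)⁻¹ := by group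
        _ = ε z * ε (sv v) * (ε z)⁻¹ := by rw [h3]; group
    rw [h2, hεE] at h1
    obtain ⟨_, ⟨u, rfl⟩, hu⟩ := h1
    exact ⟨u, hεi hu.symm⟩
  obtain ⟨k, v, rfl⟩ := normalize_sv z hz
  refine ⟨k.val, ε (sv v) * d, mul_mem ?_ hdc, by rw [map_mul, map_pow, mul_assoc]⟩
  intro y hy
  exact hE.comm y hy _ (by rw [hεE]; exact ⟨sv v, ⟨v, rfl⟩, rfl⟩)

theorem Hyp.two_pow_centralizes {E : Subgroup G} (hE : D.IsE E) [Finite G] {n : G} {j : ℕ}
    (hn : ∀ x ∈ E, n * x * n⁻¹ ∈ E) (hj : n ^ 2 ^ j = 1) : n ∈ centralizer (E : Set G) := by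
  classical
  haveI : Fact (Nat.Prime 2) := ⟨Nat.prime_two⟩
  let β := {z : G // z ∈ E ∧ z ≠ 1}
  let f : β → β := fun z => ⟨n * z.1 * n⁻¹, hn _ z.2.1, fun e => z.2.2 (conj_eq_one_iff.1 e)⟩
  have hit : ∀ (m : ℕ) (z : β), (f^[m] z).1 = n ^ m * z.1 * (n ^ m)⁻¹ := by
    intro m
    induction m with
    | zero => intro z; simp
    | succ m ih =>
      intro z
      rw [Function.iterate_succ', Function.comp_apply]
      show n * (f^[m] z).1 * n⁻¹ = _
      rw [ih, pow_succ']; group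
  have hfix := fixed_mod 2 f j fun z => Subtype.ext (by rw [hit, hj]; simp)
  have hβ : Nat.card β = 7 := by
    have h := hE.card
    have he : Nat.card β = Nat.card {z : E // z ≠ 1} := Nat.card_congr
      { toFun := fun z => ⟨⟨z.1, z.2.1⟩, fun e => z.2.2 (congrArg Subtype.val e)⟩
        invFun := fun z => ⟨z.1.1, z.1.2, fun e => z.2 (Subtype.ext e)⟩
        left_inv := fun z => rfl
        right_inv := fun z => rfl }
    haveI := Fintype.ofFinite E
    rw [he, Nat.card_eq_fintype_card, Fintype.card_subtype_compl, Fintype.card_subtype_eq]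
    rw [Nat.card_eq_fintype_card] at h
    rw [h]
  rw [hβ] at hfix
  obtain ⟨⟨a, hfa⟩⟩ : Nonempty {z : β // f z = z} := by
    by_contra h0
    rw [not_nonempty_iff] at h0
    rw [Nat.card_of_isEmpty] at hfix
    omega
  obtain ⟨h, hh, k, c, hc, rfl⟩ := D.stab_decomp hE a.2.1 a.2.2 hn (congrArg Subtype.val hfa)
  have hact : ∀ (m : ℕ), ∀ x ∈ E,
      (h ^ k * c) ^ m * x * ((h ^ k * c) ^ m)⁻¹ = h ^ (k * m) * x * (h ^ (k * m))⁻¹ ∧
        h ^ (k * m) * x * (h ^ (k * m))⁻¹ ∈ E := by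
    have hcx : ∀ x ∈ E, c * x * c⁻¹ = x := fun x hx => by rw [← (hc x hx), mul_inv_cancel_right]
    intro m
    induction m with
    | zero => intro x hx; simp [hx]
    | succ m ih =>
      intro x hx
      obtain ⟨e1, e2⟩ := ih x hx
      have e3 := hn _ e2
      have e4 : h ^ k * c * (h ^ (k * m) * x * (h ^ (k * m))⁻¹) * (h ^ k * c)⁻¹ =
          h ^ (k * (m + 1)) * x * (h ^ (k * (m + 1)))⁻¹ := by
        have := hcx _ e2
        rw [show k * (m + 1) = k + k * m by ring, pow_add]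
        calc h ^ k * c * (h ^ (k * m) * x * (h ^ (k * m))⁻¹) * (h ^ k * c)⁻¹
            = h ^ k * (c * (h ^ (k * m) * x * (h ^ (k * m))⁻¹) * c⁻¹) * (h ^ k)⁻¹ := by group
          _ = _ := by rw [this]; group
      refine ⟨?_, e4 ▸ e3⟩
      rw [← e4, ← e1]; generalize h ^ k * c = n; rw [pow_succ']; group
  have hfixk : ∀ x ∈ E, h ^ k * x * (h ^ k)⁻¹ = x := by
    intro x hx
    by_cases hk : k % 3 = 0
    · have : h ^ k = 1 := by
        rw [← Nat.mod_add_div k 3, hk, zero_add, pow_mul, hh.2.2.1, one_pow]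
      rw [this]; simp
    · exfalso
      have h3 := hh.2.2.1
      set r := (k * 2 ^ j) % 3 with hr
      have hr0 : r ≠ 0 := by
        intro h0
        rcases (Nat.prime_three.dvd_mul).1 (Nat.dvd_of_mod_eq_zero h0) with h | h
        · exact hk (Nat.mod_eq_zero_of_dvd h)
        · exact absurd (Nat.prime_three.dvd_of_dvd_pow h) (by norm_num)
      have hcomm : ∀ x ∈ E, h * x * h⁻¹ = x := by
        intro x hx
        have e := (hact (2 ^ j) x hx).1
        rw [hj] at e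
        have hp : h ^ (k * 2 ^ j) = h ^ r := by
          conv_lhs => rw [← Nat.mod_add_div (k * 2 ^ j) 3, pow_add, pow_mul, h3, one_pow, mul_one]
        rw [hp] at e
        simp only [one_mul, inv_one, mul_one] at e
        have hx' : Commute (h ^ r) x := by
          rw [Commute, SemiconjBy]
          conv_rhs => rw [e]
          group
        have : r = 1 ∨ r = 2 := by omega
        rcases this with h1 | h1
        · rw [h1, pow_one] at hx'
          rw [hx'.eq, mul_inv_cancel_right]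
        · have h4 : Commute (h ^ 4) x := by
            have := hx'.pow_left 2
            rwa [h1, ← pow_mul] at this
          have h5 : h ^ 4 = h := by rw [pow_succ, h3, one_mul]
          rw [h5] at h4
          rw [h4.eq, mul_inv_cancel_right]
      have hall : ∀ x ∈ E, x = 1 ∨ x = a.1 := fun x hx => hh.2.2.2.2 x hx (hcomm x hx)
      have hsub : Nat.card β ≤ 1 := by
        haveI : Subsingleton β := ⟨fun z w => Subtype.ext (by
          rcases hall _ z.2.1 with h1 | h1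
          · exact absurd h1 z.2.2
          rcases hall _ w.2.1 with h2 | h2
          · exact absurd h2 w.2.2
          rw [h1, h2])⟩
        exact Finite.card_le_one_iff_subsingleton.2 inferInstance
      omega
  intro x hx
  have hcx : c * x * c⁻¹ = x := by rw [← (hc x hx), mul_inv_cancel_right]
  have h1 := hfixk x hx
  calc x * (h ^ k * c) = h ^ k * x * (h ^ k)⁻¹ * (h ^ k * c) := by rw [h1]
    _ = h ^ k * (x * c) := by group
    _ = h ^ k * c * x := by rw [(hc x hx), mul_assoc]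

/-- The configuration inside a subgroup containing the weak closures at the standard points. -/
noncomputable def Hyp.restrict [Finite G] (K : Subgroup G)
    (hK : ∀ b ∈ D.E0, b ≠ 1 → D.Wu b ≤ K) : Hyp K :=
  have hW : D.W ≤ K := D.W_eq.le.trans (hK _ D.t_mem_E0 (fun h => by
    have := D.ord; rw [h, orderOf_one] at this; omega))
  { t := ⟨D.t, hW D.mem⟩
    W := D.W.subgroupOf K
    e := (subgroupOfEquivOfLe hW).trans D.e
    mem := D.mem
    et := D.et
    conj := by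
      intro x hx ho
      obtain ⟨z, hz⟩ : (x : G) ∈ D.ι.range := by rw [D.ι_range]; exact hx
      have hzo : orderOf z = 2 := by
        rw [← orderOf_injective _ D.ι_injective, hz, orderOf_coe, ho]
      obtain ⟨w, v, hwv⟩ := invol_conj_sv z (by have := pow_orderOf_eq_one z; rwa [hzo, pow_two] at this)
      set y := D.ι w * (x : G) * (D.ι w)⁻¹ with hy
      have hyE : y ∈ D.E0 := ⟨sv v, ⟨v, rfl⟩, by rw [hy, ← hz, ← hwv]; simp⟩
      have hy1 : y ≠ 1 := fun h => by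
        rw [hy, conj_eq_one_iff] at h
        rw [← orderOf_coe, h, orderOf_one] at ho
        omega
      have hwK : D.ι w ∈ K := hW (by rw [← D.ι_range]; exact ⟨w, rfl⟩)
      have ht1 : D.t ≠ 1 := fun h => by
        have := D.ord; rw [h, orderOf_one] at this; omega
      obtain ⟨k, hk, hkt⟩ := D.fused D.isE_E0 K (fun a ha ha1 => by
        obtain ⟨h, hh⟩ := D.exists_isH D.isE_E0 ha ha1
        exact ⟨h, hK a ha ha1 hh.1, hh⟩) D.t_mem_E0 ht1 hyE hy1
      refine isConj_iff.2 ⟨(⟨D.ι w, hwK⟩ : K)⁻¹ * ⟨k, hk⟩, Subtype.ext ?_⟩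
      show (D.ι w)⁻¹ * k * D.t * ((D.ι w)⁻¹ * k)⁻¹ = x
      calc (D.ι w)⁻¹ * k * D.t * ((D.ι w)⁻¹ * k)⁻¹ = (D.ι w)⁻¹ * (k * D.t * k⁻¹) * D.ι w := by group
        _ = x := by rw [hkt, hy]; group
    closed := fun x hx hc => by
      obtain ⟨k, hk⟩ := isConj_iff.1 hx
      exact D.closed (x : G) (isConj_iff.2 ⟨(k : G), congrArg Subtype.val hk⟩) (hc.map K.subtype)
    split := fun c hc => by
      have hc' : Commute (c : G) D.t := (mem_cent_singleton.1 hc).map K.subtype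
      obtain ⟨w, hw, d, hd, he⟩ := mem_sup_centralizer (D.split (mem_cent_singleton.2 hc'))
      have hdK : d ∈ K := by
        rw [show d = w⁻¹ * c by rw [he]; group]
        exact mul_mem (inv_mem (hW hw)) c.2
      rw [show c = (⟨w, hW hw⟩ : K) * ⟨d, hdK⟩ from Subtype.ext he]
      exact mul_mem (mem_sup_left hw) (mem_sup_right fun y hy => Subtype.ext (hd (y : G) hy)) }

theorem Hyp.restrict_t [Finite G] (K : Subgroup G) (hK : ∀ b ∈ D.E0, b ≠ 1 → D.Wu b ≤ K) :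
    ((D.restrict K hK).t : G) = D.t := rfl

end Cfsg.Agent.WeakJ1
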