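import Cfsg.Agent.J1Order38.Model

/-!
Facts on `C₂ × A₅` used for the weak closure characterisation of the smallest Janko group.
-/

set_option autoImplicit false

namespace Cfsg.Agent.WeakJ1

open Cfsg.Agent.J1Order38.Model Cfsg.Agent.J1Order38.Cert Subgroup
open scoped commutatorElement

set_option synthInstance.maxSize 4000

set_option maxRecDepth 100000 in
theorem two_invols : ∀ z : HM, ∃ i : HM, i * i = 1 ∧ (i * z) * (i * z) = 1 := by decide +kernel

set_option maxRecDepth 100000 in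
theorem center_model : ∀ z : HM, z * g0 0 = g0 0 * z → z * g0 2 = g0 2 * z →
    z * g0 1 = g0 1 * z → z = 1 ∨ z = g0 3 := by decide +kernel

set_option maxRecDepth 100000 in
theorem invol_conj_sv : ∀ z : HM, z * z = 1 → ∃ w : HM, ∃ v : Fin 8, w * z * w⁻¹ = sv v := by
  decide +kernel

set_option maxRecDepth 100000 in
theorem normalize_sv : ∀ z : HM, (∀ v : Fin 8, ∃ w : Fin 8, z * sv v * z⁻¹ = sv w) →
    ∃ k : Fin 3, ∃ v : Fin 8, z = g0 1 ^ k.val * sv v := by decide +kernel

set_option maxRecDepth 100000 in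
theorem b_cube : g0 1 ^ 3 = (1 : HM) := by decide +kernel

theorem beta_fix : ∀ v : Fin 8, beta v = v → v = 0 ∨ v = 1 := by decide +kernel

theorem beta_cycle : ∀ v : Fin 8, beta (beta (beta v)) = v := by decide +kernel

theorem beta_even : ∀ v : Fin 8, (beta v).val % 2 = v.val % 2 := by decide +kernel

theorem vadd_one_even : ∀ v : Fin 8, v.val % 2 = 0 ∨ (vadd 1 v).val % 2 = 0 := by decide +kernel

theorem vadd_one_two : ∀ v : Fin 8, v.val % 2 = 0 → v ≠ 0 →
    v = 2 ∨ v = beta 2 ∨ v = beta (beta 2) := by decide +kernel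

theorem sv_zero : sv 0 = 1 := by decide +kernel

theorem sv_sq : ∀ v : Fin 8, sv v * sv v = 1 := by decide +kernel

theorem sv_comm : ∀ v w : Fin 8, sv v * sv w = sv w * sv v := by decide +kernel

set_option maxRecDepth 100000 in
theorem sv_commutator : ∀ v : Fin 8, v = 2 ∨ v = 4 → ∃ x y : HM, x * x = 1 ∧ ⁅x, y⁆ = sv v := by
  decide +kernel

theorem sv_even : ∀ v : Fin 8, v.val % 2 = 0 →
    v = 0 ∨ v = 2 ∨ v = 4 ∨ v = vadd 2 4 := by decide +kernel

theorem sv_fst : ∀ v : Fin 8, (sv v).1 = 1 ↔ v.val % 2 = 0 := by decide +kernel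

/-- The four-subgroup extended by the centre. -/
def eModel : Subgroup HM where
  carrier := Set.range sv
  one_mem' := ⟨0, sv_zero⟩
  mul_mem' := by
    rintro _ _ ⟨v, rfl⟩ ⟨w, rfl⟩
    exact ⟨vadd v w, sv_add v w⟩
  inv_mem' := by
    rintro _ ⟨v, rfl⟩
    exact ⟨v, (inv_eq_of_mul_eq_one_right (sv_sq v)).symm⟩

theorem mem_eModel {x : HM} : x ∈ eModel ↔ ∃ v, sv v = x := Iff.rfl

theorem card_eModel : Nat.card eModel = 8 := by
  rw [Nat.card_congr (Equiv.ofBijective
    (fun v : Fin 8 => (⟨sv v, v, rfl⟩ : eModel))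
    ⟨fun v w h => sv_inj v w (congrArg Subtype.val h),
     fun x => by obtain ⟨v, hv⟩ := x.2; exact ⟨v, Subtype.ext hv⟩⟩).symm, Nat.card_fin]

theorem card_HM : Nat.card HM = 120 := by rw [Nat.card_eq_fintype_card]; rfl

/-- Subgroups of order eight are conjugate to the standard one. -/
theorem conj_eModel (F : Subgroup HM) (hF : Nat.card F = 8) :
    ∃ w : HM, F.map (MulAut.conj w).toMonoidHom = eModel := by
  haveI : Fact (Nat.Prime 2) := ⟨Nat.prime_two⟩
  have hf : (Nat.card HM).factorization 2 = 3 := by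
    rw [card_HM, show (120 : ℕ) = 2 ^ 3 * 15 by norm_num,
      Nat.factorization_mul (by norm_num) (by norm_num), Nat.Prime.factorization_pow Nat.prime_two,
      Finsupp.add_apply, Finsupp.single_eq_same,
      Nat.factorization_eq_zero_of_not_dvd (by norm_num)]
  have hc : ∀ U : Subgroup HM, Nat.card U = 8 → ∃ T : Sylow 2 HM, (T : Subgroup HM) = U := fun U hU =>
    ⟨Sylow.ofCard U (by rw [hU, hf]; norm_num), rfl⟩
  obtain ⟨T₁, h₁⟩ := hc F hF
  obtain ⟨T₂, h₂⟩ := hc eModel card_eModel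
  obtain ⟨w, hw⟩ := MulAction.exists_smul_eq HM T₁ T₂
  refine ⟨w, ?_⟩
  rw [← h₁, ← h₂, ← hw]
  rfl

theorem centralizer_eModel {z : HM} (h : ∀ v, z * sv v = sv v * z) : ∃ v, sv v = z :=
  cent_sv z (by rw [← sv_one]; exact h 1) (by rw [← sv_two]; exact h 2) (h 4)

/-- Coset representatives of a point stabiliser. -/
def reps : Fin 5 → HM
  | 0 => 1
  | 1 => g0 2
  | 2 => g0 0 * g0 2
  | 3 => g0 1 * (g0 0 * g0 2)
  | 4 => g0 1 * g0 1 * (g0 0 * g0 2)

set_option maxRecDepth 100000 in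
theorem reps_cover : ∀ z : HM, ∃ j : Fin 5, ∃ i : Fin 3, ∃ v : Fin 8,
    z = reps j * g0 1 ^ i.val * sv v := by decide +kernel

/-- Replace the third generator. -/
def withR (r : HM) : ℕ → HM := fun i => if i = 2 then r else g0 i

set_option maxRecDepth 100000 in
theorem fix_b : ∀ b : HM, b ^ 3 = 1 → (∀ v : Fin 8, b * sv v * b⁻¹ = sv (beta v)) →
    ∃ w : Fin 8, sv w * b * (sv w)⁻¹ = g0 1 := by decide +kernel

set_option maxRecDepth 100000 in
theorem fix_r : ∀ r : HM, (∀ w ∈ relsH, eval (withR r) w = 1) → r = g0 2 := by decide +kernel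

/-- An automorphism fixing the subgroup of order eight pointwise is conjugation by one of its
elements. -/
theorem aut_inner (φ : HM ≃* HM) (hφ : ∀ v, φ (sv v) = sv v) :
    ∃ w : HM, ∀ z, φ z = w * z * w⁻¹ := by
  have hb := fix_b (φ (g0 1)) (by rw [← map_pow, b_cube, map_one]) fun v => by
    have h := congrArg φ (beta_ok v)
    rw [map_mul, map_mul, map_inv, hφ, hφ] at h
    exact h
  obtain ⟨w, hw⟩ := hb
  refine ⟨(sv w)⁻¹, fun z => ?_⟩
  set ψ : HM →* HM := ((φ.trans (MulAut.conj (sv w)))).toMonoidHom with hψdef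
  have hψ : ∀ z, ψ z = sv w * φ z * (sv w)⁻¹ := fun z => rfl
  have hsv : ∀ v, ψ (sv v) = sv v := fun v => by
    rw [hψ, hφ, sv_comm, mul_inv_cancel_right]
  have hr : ψ (g0 2) = g0 2 := fix_r _ fun u hu => by
    have h := map_eval ψ g0 u
    rw [relsH_ok u hu, map_one] at h
    rw [h]
    congr 1
    funext i
    show withR _ i = ψ (g0 i)
    match i with
    | 0 => rw [withR, if_neg (by norm_num), ← sv_two, hsv]
    | 1 => rw [withR, if_neg (by norm_num), hψ, hw]
    | 2 => rw [withR, if_pos rfl]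
    | 3 => rw [withR, if_neg (by norm_num), ← sv_one, hsv]
    | n + 4 => rw [withR, if_neg (by omega), show g0 (n + 4) = 1 from rfl, map_one]
  have h1 : ψ (g0 1) = g0 1 := by rw [hψ, hw]
  have h0 : ψ (g0 0) = g0 0 := by rw [← sv_two, hsv]
  have hrep : ∀ j, ψ (reps j) = reps j := by
    intro j
    fin_cases j <;> simp [reps, map_mul, h0, h1, hr]
  obtain ⟨j, i, v, hz⟩ := reps_cover z
  have hid : ψ z = z := by rw [hz, map_mul, map_mul, map_pow, hrep, h1, hsv]
  rw [hψ] at hid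
  rw [inv_inv]
  calc φ z = (sv w)⁻¹ * (sv w * φ z * (sv w)⁻¹) * sv w := by group
    _ = (sv w)⁻¹ * z * sv w := by rw [hid]

end Cfsg.Agent.WeakJ1
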